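import Mathlib.RingTheory.TensorProduct.IncludeLeftSubRight
import Mathlib.RingTheory.Flat.Basic
import Mathlib.RingTheory.Flat.Equalizer

/-!
Equalizers after tensoring with a flat module.
-/

universe u v w w'

open scoped TensorProduct

namespace Groth.Agent.WittDesc88

variable {A : Type u} [CommRing A] {B : Type v} [AddCommGroup B] [Module A B] {C : Type w}
  [AddCommGroup C] [Module A C] (M : Type w') [AddCommGroup M] [Module A M] [Module.Flat A M]

/-- An exact `0 → A → B ⇉ C` stays exact after `M ⊗ -` for `M` flat. -/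
theorem lTensor_equalizer (i : A →ₗ[A] B) (φ ψ : B →ₗ[A] C) (hi : Function.Injective i)
    (he : ∀ b, φ b = ψ b ↔ b ∈ Set.range i) :
    Function.Injective (fun m : M => m ⊗ₜ[A] i 1) ∧
      ∀ x : M ⊗[A] B, φ.lTensor M x = ψ.lTensor M x ↔ x ∈ Set.range (fun m : M => m ⊗ₜ[A] i 1) := by
  have h1 : Function.Injective (i.lTensor M) := Module.Flat.lTensor_preserves_injective_linearMap i hi
  have hex : Function.Exact i (φ - ψ : B →ₗ[A] C) := fun b => by
    rw [LinearMap.sub_apply, sub_eq_zero]
    exact he b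
  have h2 := Module.Flat.lTensor_exact M hex
  have hm : (fun m : M => m ⊗ₜ[A] i 1) = i.lTensor M ∘ (TensorProduct.rid A M).symm := by
    funext m
    simp
  refine ⟨hm ▸ h1.comp (TensorProduct.rid A M).symm.injective, fun x => ?_⟩
  rw [hm, Set.range_comp, (TensorProduct.rid A M).symm.surjective.range_eq, Set.image_univ, ← sub_eq_zero,
    ← LinearMap.sub_apply, ← LinearMap.lTensor_sub]
  exact h2 x

/-- The same with `M` on the right. -/
theorem rTensor_equalizer (i : A →ₗ[A] B) (φ ψ : B →ₗ[A] C) (hi : Function.Injective i)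
    (he : ∀ b, φ b = ψ b ↔ b ∈ Set.range i) :
    Function.Injective (fun m : M => i 1 ⊗ₜ[A] m) ∧
      ∀ x : B ⊗[A] M, φ.rTensor M x = ψ.rTensor M x ↔ x ∈ Set.range (fun m : M => i 1 ⊗ₜ[A] m) := by
  obtain ⟨h1, h2⟩ := lTensor_equalizer M i φ ψ hi he
  have hm : (fun m : M => i 1 ⊗ₜ[A] m) = TensorProduct.comm A M B ∘ fun m : M => m ⊗ₜ[A] i 1 := by
    funext m
    simp
  refine ⟨hm ▸ (TensorProduct.comm A M B).injective.comp h1, fun x => ?_⟩
  obtain ⟨y, rfl⟩ := (TensorProduct.comm A M B).surjective x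
  have hc : ∀ χ : B →ₗ[A] C, χ.rTensor M (TensorProduct.comm A M B y) =
      TensorProduct.comm A M C (χ.lTensor M y) := fun χ => by
    induction y using TensorProduct.induction_on <;> simp_all
  rw [hc, hc, (TensorProduct.comm A M C).injective.eq_iff, h2, hm, Set.range_comp,
    Function.Injective.mem_set_image (TensorProduct.comm A M B).injective]

/-- The degree zero part of faithfully flat descent. -/
theorem mem_range_iff_of_faithfullyFlat {R R' : Type u} [CommRing R] [CommRing R'] [Algebra R R']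
    [Module.FaithfullyFlat R R'] (x : R') :
    x ⊗ₜ[R] (1 : R') = 1 ⊗ₜ[R] x ↔ x ∈ Set.range (algebraMap R R') := by
  rw [← sub_eq_zero, ← Algebra.TensorProduct.includeLeftSubRight_apply]
  exact Algebra.IsEffective.of_faithfullyFlat R R' x

end Groth.Agent.WittDesc88
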