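import Groth.Agent.WittDesc88.FullFaithful

/-!
Full faithfulness of `toDescentData` for extension of scalars along an equalizer of rings.
-/

universe u v w

open CategoryTheory Opposite

namespace Groth.Agent.WittDesc88

/-- The `mapComp'` isomorphism, evaluated at a module. -/
noncomputable def compIso {D : Type w} [Category.{v} D] (G : D ⥤ CommRingCat.{u}) {a b c : LocallyDiscrete D}
    (f : a ⟶ b) (g : b ⟶ c) (k : a ⟶ c) (h : f ≫ g = k) (M : ModuleCat.{u} (G.obj a.as)) :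
    (ModuleCat.extendScalars.{u, u, u} (G.map k.as).hom).obj M ≅
      (ModuleCat.extendScalars.{u, u, u} (G.map g.as).hom).obj
        ((ModuleCat.extendScalars.{u, u, u} (G.map f.as).hom).obj M) :=
  (Cat.Hom.toNatIso ((G.toPseudofunctor.comp CommRingCat.moduleCatExtendScalarsPseudofunctor.{u}).mapComp'
    f g k h)).app M

theorem compIso_oneT {D : Type w} [Category.{v} D] (G : D ⥤ CommRingCat.{u}) {a b c : LocallyDiscrete D}
    (f : a ⟶ b) (g : b ⟶ c) (k : a ⟶ c) (h : f ≫ g = k) (M : ModuleCat.{u} (G.obj a.as)) (m : M) :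
    (compIso G f g k h M).hom (oneT (G.map k.as) M m) = oneT (G.map g.as) _ (oneT (G.map f.as) M m) :=
  compHom_oneT G f g k h M m

theorem toDescentData_map_bijective {D : Type w} [Category.{v} D] (G : Dᵒᵖ ⥤ CommRingCat.{u}) {S X Y : D}
    (f : X ⟶ S) (f₁ f₂ : Y ⟶ X) (w : f₂ ≫ f = f₁ ≫ f) (hinj : Function.Injective (G.map f.op).hom)
    (heq : ∀ b, (G.map f₁.op).hom b = (G.map f₂.op).hom b → b ∈ Set.range (G.map f.op).hom)
    (M N : ModuleCat.{u} (G.obj (op S))) (hflat : Module.Flat (G.obj (op S)) N) :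
    Function.Bijective (fun φ : M ⟶ N =>
      ((G.toPseudofunctor.comp CommRingCat.moduleCatExtendScalarsPseudofunctor.{u}).toDescentData
        (fun _ : PUnit.{u + 1} => f)).map φ) := by
  have c₁ : f.op.toLoc ≫ f₁.op.toLoc = (f₁ ≫ f).op.toLoc := rfl
  have c₂ : f.op.toLoc ≫ f₂.op.toLoc = (f₁ ≫ f).op.toLoc := by rw [← w]; rfl
  have k₁ : G.map f.op ≫ G.map f₁.op = G.map (f₁ ≫ f).op := (G.map_comp _ _).symm
  have k₂ : G.map f.op ≫ G.map f₂.op = G.map (f₁ ≫ f).op := by rw [← w]; exact (G.map_comp _ _).symm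
  obtain ⟨hI, hS⟩ := bijective_of_equalizer (G.map f.op) (G.map f₁.op) (G.map f₂.op) (G.map (f₁ ≫ f).op)
    k₁ k₂ hinj heq M N hflat (compIso G _ _ _ c₁ M) (compIso G _ _ _ c₂ M) (compIso G _ _ _ c₁ N)
    (compIso G _ _ _ c₂ N) (compIso_oneT G _ _ _ c₁ M) (compIso_oneT G _ _ _ c₂ M)
    (compIso_oneT G _ _ _ c₁ N) (compIso_oneT G _ _ _ c₂ N)
  refine ⟨fun φ φ' hφ => hI (congrArg (fun χ => Pseudofunctor.DescentData.Hom.hom χ PUnit.unit) hφ), fun χ => ?_⟩
  obtain ⟨φ, hφ⟩ := hS (χ.hom PUnit.unit)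
    (χ.comm (f₁ ≫ f) (i₁ := PUnit.unit) (i₂ := PUnit.unit) f₁ f₂ rfl w)
  exact ⟨φ, Pseudofunctor.DescentData.hom_ext fun i => hφ⟩

theorem toDescentData_map_bijective_of_eq {D : Type w} [Category.{v} D] (G : Dᵒᵖ ⥤ CommRingCat.{u})
    (P : Pseudofunctor (LocallyDiscrete Dᵒᵖ) Cat.{u, u + 1})
    (hP : G.toPseudofunctor.comp CommRingCat.moduleCatExtendScalarsPseudofunctor.{u} = P) {S X Y : D}
    (f : X ⟶ S) (f₁ f₂ : Y ⟶ X) (w : f₂ ≫ f = f₁ ≫ f) (hinj : Function.Injective (G.map f.op).hom)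
    (heq : ∀ b, (G.map f₁.op).hom b = (G.map f₂.op).hom b → b ∈ Set.range (G.map f.op).hom)
    (M N : P.obj (.mk (op S)))
    (hflat : ∀ N' : ModuleCat.{u} (G.obj (op S)), HEq N' N → Module.Flat (G.obj (op S)) N') :
    Function.Bijective (fun φ : M ⟶ N => (P.toDescentData (fun _ : PUnit.{u + 1} => f)).map φ) := by
  subst hP
  exact toDescentData_map_bijective G f f₁ f₂ w hinj heq M N (hflat N HEq.rfl)

end Groth.Agent.WittDesc88
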