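import Groth.Agent.WittDesc88.Descent

/-!
Effectiveness of descent from a solution of the matrix problem.
-/

set_option autoImplicit false

universe u v w

open CategoryTheory Opposite

namespace Groth.Agent.WittDesc88

/-- Matrices indexed by the pairs of maps over a given one, with the laws of a descent datum. -/
structure MatrixDatum {C : Type w} [Category.{v} C] (G : Cᵒᵖ ⥤ CommRingCat.{u}) {S X : C} (f : X ⟶ S) (k : ℕ) where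
  /-- the idempotent -/
  e : Matrix (Fin k) (Fin k) (G.obj (op X))
  /-- the transition matrices -/
  t : ∀ {Y : C} (q : Y ⟶ S) (f₁ f₂ : Y ⟶ X), f₁ ≫ f = q → f₂ ≫ f = q → Matrix (Fin k) (Fin k) (G.obj (op Y))
  self : ∀ {Y : C} (q : Y ⟶ S) (h : Y ⟶ X) (hh : h ≫ f = q), t q h h hh hh = e.map (G.map h.op).hom
  comp : ∀ {Y : C} (q : Y ⟶ S) (f₁ f₂ f₃ : Y ⟶ X) (hf₁ : f₁ ≫ f = q) (hf₂ : f₂ ≫ f = q) (hf₃ : f₃ ≫ f = q),
    t q f₂ f₃ hf₂ hf₃ * t q f₁ f₂ hf₁ hf₂ = t q f₁ f₃ hf₁ hf₃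
  pull : ∀ {Y Y' : C} (q : Y ⟶ S) (f₁ f₂ : Y ⟶ X) (hf₁ : f₁ ≫ f = q) (hf₂ : f₂ ≫ f = q) (g : Y' ⟶ Y)
    (q' : Y' ⟶ S) (_ : g ≫ q = q') (gf₁ gf₂ : Y' ⟶ X) (_ : g ≫ f₁ = gf₁) (_ : g ≫ f₂ = gf₂)
    (h₁ : gf₁ ≫ f = q') (h₂ : gf₂ ≫ f = q'), t q' gf₁ gf₂ h₁ h₂ = (t q f₁ f₂ hf₁ hf₂).map (G.map g.op).hom

theorem exists_descends {C : Type w} [Category.{v} C] (G : Cᵒᵖ ⥤ CommRingCat.{u})
    (P : Pseudofunctor (LocallyDiscrete Cᵒᵖ) Cat.{u, u + 1})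
    (hP : G.toPseudofunctor.comp CommRingCat.moduleCatExtendScalarsPseudofunctor.{u} = P)
    {S X : C} (f : X ⟶ S) (D : P.DescentData (fun _ : PUnit.{u + 1} => f))
    (hD : ∀ N : ModuleCat.{u} (G.obj (op X)), N ≍ D.obj PUnit.unit →
      Module.Finite (G.obj (op X)) N ∧ Module.Projective (G.obj (op X)) N)
    (hmat : ∀ (k : ℕ) (d : MatrixDatum G f k), ∃ (l : ℕ) (Q : Matrix (Fin l) (Fin l) (G.obj (op S)))
      (U : Matrix (Fin k) (Fin l) (G.obj (op X))) (V : Matrix (Fin l) (Fin k) (G.obj (op X))),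
      Q * Q = Q ∧ U * V = d.e ∧ V * U = Q.map (G.map f.op).hom ∧
        ∀ {Y : C} (q : Y ⟶ S) (f₁ f₂ : Y ⟶ X) (hf₁ : f₁ ≫ f = q) (hf₂ : f₂ ≫ f = q),
          d.t q f₁ f₂ hf₁ hf₂ * U.map (G.map f₁.op).hom = U.map (G.map f₂.op).hom) :
    ∃ M : P.obj (.mk (op S)), (∀ N : ModuleCat.{u} (G.obj (op S)), N ≍ M →
        Module.Finite (G.obj (op S)) N ∧ Module.Projective (G.obj (op S)) N) ∧
      Nonempty ((P.toDescentData (fun _ : PUnit.{u + 1} => f)).obj M ≅ D) := by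
  subst hP
  obtain ⟨h₁, h₂⟩ := hD (modOf D) HEq.rfl
  obtain ⟨k, ⟨c⟩⟩ := exists_coords D h₁ h₂
  obtain ⟨l, Q, U, V, hQ, hUV, hVU, hU⟩ := hmat k
    { e := c.idem, t := c.trans, self := c.trans_self, comp := c.trans_comp, pull := c.trans_pull }
  obtain ⟨M, hM₁, hM₂, hiso⟩ := c.reconstruct Q U V hQ hUV hVU hU
  exact ⟨M, fun N hN => by cases eq_of_heq hN; exact ⟨hM₁, hM₂⟩, hiso⟩

end Groth.Agent.WittDesc88
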