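import Groth.Agent.S0585
import Mathlib.RingTheory.Finiteness.Descent
import Mathlib.LinearAlgebra.Matrix.Defs
import Mathlib.LinearAlgebra.Matrix.ToLin
import Mathlib.RingTheory.Flat.FaithfullyFlat.Algebra
import Mathlib.LinearAlgebra.TensorProduct.Pi

/-!
Classical faithfully flat descent, for idempotent matrices.
-/

set_option autoImplicit false

universe u v

open scoped TensorProduct
open Matrix

namespace Groth.Agent.WittDesc88

variable (R : Type u) [CommRing R] (R' : Type u) [CommRing R'] [Algebra R R']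

/-- `r ↦ r ⊗ 1`. -/
noncomputable abbrev inc₁ : R' →ₐ[R] R' ⊗[R] R' := Algebra.TensorProduct.includeLeft

/-- `r ↦ 1 ⊗ r`. -/
noncomputable abbrev inc₂ : R' →ₐ[R] R' ⊗[R] R' := Algebra.TensorProduct.includeRight

/-- The diagonal. -/
noncomputable abbrev diag : R' ⊗[R] R' →ₐ[R] R' := Algebra.TensorProduct.lmul' R

/-- `a ⊗ b ↦ a ⊗ (b ⊗ 1)`. -/
noncomputable abbrev pr₁₂ : R' ⊗[R] R' →ₐ[R] R' ⊗[R] (R' ⊗[R] R') :=
  Algebra.TensorProduct.map (AlgHom.id R R') (inc₁ R R')

/-- `a ⊗ b ↦ a ⊗ (1 ⊗ b)`. -/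
noncomputable abbrev pr₁₃ : R' ⊗[R] R' →ₐ[R] R' ⊗[R] (R' ⊗[R] R') :=
  Algebra.TensorProduct.map (AlgHom.id R R') (inc₂ R R')

/-- `a ⊗ b ↦ 1 ⊗ (a ⊗ b)`. -/
noncomputable abbrev pr₂₃ : R' ⊗[R] R' →ₐ[R] R' ⊗[R] (R' ⊗[R] R') :=
  Algebra.TensorProduct.includeRight

/-- `a ⊗ (b ⊗ c) ↦ ab ⊗ c`. -/
noncomputable def collapse : R' ⊗[R] (R' ⊗[R] R') →ₐ[R] R' ⊗[R] R' :=
  Algebra.TensorProduct.lift (inc₁ R R') (AlgHom.id R _) (fun _ _ => Commute.all _ _)

variable {R R'}

theorem diag_inc₁ (x : R') : diag R R' (inc₁ R R' x) = x := by simp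

theorem diag_inc₂ (x : R') : diag R R' (inc₂ R R' x) = x := by simp

theorem collapse_pr₂₃ (z : R' ⊗[R] R') : collapse R R' (pr₂₃ R R' z) = z := by
  simp [collapse, ← Algebra.TensorProduct.one_def]

theorem collapse_pr₁₃ (z : R' ⊗[R] R') : collapse R R' (pr₁₃ R R' z) = z := by
  induction z using TensorProduct.induction_on with
  | zero => simp
  | tmul a b => simp [collapse, Algebra.TensorProduct.tmul_mul_tmul]
  | add x y hx hy => rw [map_add, map_add, hx, hy]

theorem collapse_pr₁₂ (z : R' ⊗[R] R') : collapse R R' (pr₁₂ R R' z) = inc₁ R R' (diag R R' z) := by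
  induction z using TensorProduct.induction_on with
  | zero => simp
  | tmul a b => simp [collapse, Algebra.TensorProduct.tmul_mul_tmul]
  | add x y hx hy => rw [map_add, map_add, hx, hy, map_add, map_add]

/-- An idempotent matrix with a cocycle. -/
structure IsCocycle {k : Type v} [Fintype k] [DecidableEq k] (e : Matrix k k R') (g : Matrix k k (R' ⊗[R] R')) :
    Prop where
  diag_eq : g.map (diag R R') = e
  cocycle : g.map (pr₂₃ R R') * g.map (pr₁₂ R R') = g.map (pr₁₃ R R')
  left : e.map (inc₂ R R') * g = g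
  right : g * e.map (inc₁ R R') = g

theorem classical_descent [Module.FaithfullyFlat R R'] {k : ℕ} {e : Matrix (Fin k) (Fin k) R'}
    {g : Matrix (Fin k) (Fin k) (R' ⊗[R] R')} (h : IsCocycle e g) :
    ∃ (l : ℕ) (P : Matrix (Fin l) (Fin l) R) (U : Matrix (Fin k) (Fin l) R') (V : Matrix (Fin l) (Fin k) R'),
      P * P = P ∧ U * V = e ∧ V * U = P.map (algebraMap R R') ∧
        g * U.map (inc₁ R R') = U.map (inc₂ R R') := by
  have hee : e * e = e := by
    have h1 := congrArg (fun M => M.map (diag R R')) h.right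
    simp only [Matrix.map_mul, Matrix.map_map, h.diag_eq] at h1
    simpa [Function.comp_def] using h1
  -- the module of descended vectors
  let δ : (Fin k → R') →ₗ[R] (Fin k → R' ⊗[R] R') :=
    { toFun := fun x => g *ᵥ (inc₁ R R' ∘ x) - inc₂ R R' ∘ x
      map_add' := fun x y => by
        ext a
        simp [Matrix.mulVec, dotProduct, mul_add, Finset.sum_add_distrib, TensorProduct.add_tmul,
          TensorProduct.tmul_add]
        abel
      map_smul' := fun r x => by
        ext a
        simp [Matrix.mulVec, dotProduct, ← TensorProduct.smul_tmul', TensorProduct.tmul_smul, mul_smul_comm,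
          Finset.smul_sum, smul_sub] }
  let M := LinearMap.ker δ
  have hM : ∀ x : Fin k → R', x ∈ M ↔ g *ᵥ (inc₁ R R' ∘ x) = inc₂ R R' ∘ x := fun x => by
    simp [M, δ, sub_eq_zero]
  have hex : ∀ x ∈ M, e *ᵥ x = x := fun x hx => by
    funext a
    have h1 := congrFun ((hM x).1 hx) a
    have h2 := congrArg (diag R R') h1
    rw [← h.diag_eq]
    simp only [Matrix.mulVec, dotProduct, map_sum, map_mul, Function.comp_apply, diag_inc₁, diag_inc₂] at h2
    simpa [Matrix.mulVec, dotProduct] using h2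
  let Φ : R' ⊗[R] M →ₗ[R'] (Fin k → R') := LinearMap.liftBaseChange R' M.subtype
  let π : R' ⊗[R] (Fin k → R') ≃ₗ[R] (Fin k → R' ⊗[R] R') := TensorProduct.piRight R R R' _
  have hexact := Module.Flat.lTensor_exact R' (LinearMap.exact_subtype_ker_map δ)
  have hinjι : Function.Injective (M.subtype.lTensor R') :=
    Module.Flat.lTensor_preserves_injective_linearMap _ M.injective_subtype
  have hπδ : ∀ w : R' ⊗[R] (Fin k → R'), TensorProduct.piRight R R R' _ (δ.lTensor R' w) =
      g.map (pr₂₃ R R') *ᵥ (pr₁₂ R R' ∘ π w) - pr₁₃ R R' ∘ π w := fun w => by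
    induction w using TensorProduct.induction_on with
    | zero => ext a; simp [Matrix.mulVec, dotProduct]
    | tmul r x =>
      ext a
      simp [π, δ, Matrix.mulVec, dotProduct, TensorProduct.tmul_sum, TensorProduct.tmul_sub,
        Algebra.TensorProduct.tmul_mul_tmul]
    | add x y hx hy =>
      rw [map_add, map_add, map_add, hx, hy]
      ext a
      simp [Matrix.mulVec, dotProduct, mul_add, Finset.sum_add_distrib]
      abel
  have hΦ : ∀ z : R' ⊗[R] M, Φ z = diag R R' ∘ π (M.subtype.lTensor R' z) := fun z => by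
    induction z using TensorProduct.induction_on with
    | zero => ext a; simp
    | tmul r x => ext a; simp [Φ, π]
    | add x y hx hy => rw [map_add, hx, hy]; ext a; simp
  have hker : ∀ z : R' ⊗[R] M, g *ᵥ (inc₁ R R' ∘ Φ z) = π (M.subtype.lTensor R' z) := fun z => by
    have h0 : δ.lTensor R' (M.subtype.lTensor R' z) = 0 := hexact.apply_apply_eq_zero z
    have h1 := hπδ (M.subtype.lTensor R' z)
    rw [h0, map_zero] at h1
    funext a
    have h2 := congrArg (collapse R R') (congrFun (sub_eq_zero.1 h1.symm) a)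
    simp only [Matrix.mulVec, dotProduct, map_sum, map_mul, Function.comp_apply, Matrix.map_apply,
      collapse_pr₂₃, collapse_pr₁₂, collapse_pr₁₃] at h2
    simpa [Matrix.mulVec, dotProduct, hΦ] using h2
  have hΦinj : Function.Injective Φ := (injective_iff_map_eq_zero _).2 fun z hz => hinjι (π.injective (by
    rw [← hker, hz, map_zero, map_zero]
    funext a
    simp [Matrix.mulVec, dotProduct]))
  have hrange : LinearMap.range Φ = LinearMap.range e.mulVecLin := by
    refine le_antisymm ?_ ?_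
    · rintro _ ⟨z, rfl⟩
      refine ⟨Φ z, ?_⟩
      induction z using TensorProduct.induction_on with
      | zero => simp
      | tmul r x =>
        have h1 : Φ (r ⊗ₜ x) = r • (x : Fin k → R') := by simp [Φ]
        rw [h1, map_smul, Matrix.mulVecLin_apply, hex x x.2]
      | add x y hx hy => rw [map_add, map_add, hx, hy]
    · rintro _ ⟨y, rfl⟩
      set y' := e *ᵥ y with hy'
      have hey : e *ᵥ y' = y' := by rw [hy', Matrix.mulVec_mulVec, hee]
      let w := g *ᵥ (inc₁ R R' ∘ y')
      have hμw : diag R R' ∘ w = y' := by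
        conv_rhs => rw [← hey, ← h.diag_eq]
        funext a
        simp [w, Matrix.mulVec, dotProduct]
      have hw : δ.lTensor R' (π.symm w) = 0 := (TensorProduct.piRight R R R' _).injective (by
        rw [map_zero, hπδ, π.apply_symm_apply]
        have e1 : pr₁₂ R R' ∘ w = g.map (pr₁₂ R R') *ᵥ (pr₁₂ R R' ∘ inc₁ R R' ∘ y') :=
          funext fun a => RingHom.map_mulVec (pr₁₂ R R').toRingHom g _ a
        have e2 : pr₁₃ R R' ∘ w = g.map (pr₁₃ R R') *ᵥ (pr₁₃ R R' ∘ inc₁ R R' ∘ y') :=
          funext fun a => RingHom.map_mulVec (pr₁₃ R R').toRingHom g _ a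
        have e3 : pr₁₂ R R' ∘ inc₁ R R' ∘ y' = pr₁₃ R R' ∘ inc₁ R R' ∘ y' := by
          funext a
          simp [Algebra.TensorProduct.one_def]
        rw [e1, e2, Matrix.mulVec_mulVec, h.cocycle, e3, sub_self])
      obtain ⟨z, hz⟩ := (hexact _).1 hw
      refine ⟨z, ?_⟩
      rw [hΦ, hz, π.apply_symm_apply, hμw]
      rfl
  have hproj : Module.Projective R' (LinearMap.range e.mulVecLin) :=
    Module.Projective.of_split (LinearMap.range e.mulVecLin).subtype
      (LinearMap.rangeRestrict e.mulVecLin) (LinearMap.ext fun ⟨_, y, rfl⟩ => Subtype.ext (by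
        simp [Matrix.mulVec_mulVec, hee]))
  let Φe : R' ⊗[R] M ≃ₗ[R'] LinearMap.range e.mulVecLin :=
    (LinearEquiv.ofInjective Φ hΦinj).trans (LinearEquiv.ofEq _ _ hrange)
  have : Module.Projective R' (R' ⊗[R] M) := Module.Projective.of_equiv Φe.symm
  have : Module.Finite R' (R' ⊗[R] M) := Module.Finite.equiv Φe.symm
  have : Module.Projective R M := Groth.Agent.S0585.result R R' M
  have : Module.Finite R M := Module.Finite.of_finite_tensorProduct_of_faithfullyFlat R'
  obtain ⟨l, s, hs⟩ := Module.Finite.exists_fin' R M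
  obtain ⟨t, ht⟩ := Module.projective_lifting_property s LinearMap.id hs
  have hst : ∀ x, s (t x) = x := LinearMap.congr_fun ht
  let P : Matrix (Fin l) (Fin l) R := LinearMap.toMatrix' (t ∘ₗ s)
  have hP : ∀ v, P *ᵥ v = t (s v) := fun v => LinearMap.toMatrix'_mulVec _ v
  let U : Matrix (Fin k) (Fin l) R' := fun a j => (s (Pi.single j 1) : Fin k → R') a
  have hPP : P * P = P := Matrix.ext_of_mulVec_single fun j => by
    rw [← Matrix.mulVec_mulVec, hP, hP, hst]
  have hUv : ∀ v : Fin l → R, U *ᵥ (algebraMap R R' ∘ v) = (s v : Fin k → R') := by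
    intro v
    have hv : v = ∑ j, v j • (Pi.single j 1 : Fin l → R) := by
      conv_lhs => rw [← Finset.univ_sum_single v]
      simp [← Pi.single_smul]
    conv_rhs => rw [hv]
    funext a
    simp only [map_sum, map_smul, Submodule.coe_sum, Submodule.coe_smul, Finset.sum_apply, Pi.smul_apply]
    simp [U, Matrix.mulVec, dotProduct, Algebra.smul_def, mul_comm]
  have hUP : U * P.map (algebraMap R R') = U := by
    ext a j
    have h1 := congrFun (hUv (P *ᵥ Pi.single j 1)) a
    rw [hP, hst] at h1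
    rw [Matrix.mul_apply]
    simpa [Matrix.mulVec, dotProduct, U, Pi.single_apply, apply_ite (algebraMap R R'), hP, P, LinearMap.toMatrix'_apply] using h1
  have hgU : g * U.map (inc₁ R R') = U.map (inc₂ R R') := by
    ext a j
    exact congrFun ((hM _).1 (s (Pi.single j 1)).2) a
  -- injectivity of `U` on the image of `P`
  have hinjU : ∀ c : Fin l → R', U *ᵥ c = 0 → P.map (algebraMap R R') *ᵥ c = 0 := by
    intro c hc
    let z : R' ⊗[R] M := ∑ j, c j ⊗ₜ[R] s (Pi.single j 1)
    have hz : Φ z = 0 := by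
      rw [← hc]
      funext a
      simp [z, Φ, U, Matrix.mulVec, dotProduct, mul_comm]
    have hz0 : z = 0 := hΦinj (hz.trans (map_zero Φ).symm)
    have h1 : LinearMap.liftBaseChange R' ((Algebra.linearMap R R').compLeft (Fin l) ∘ₗ t) z =
        P.map (algebraMap R R') *ᵥ c := by
      funext b
      simp [z, P, Matrix.mulVec, dotProduct, LinearMap.toMatrix'_apply, mul_comm]
    rw [← h1, hz0, map_zero]
  have hV0 : ∀ b, ∃ c : Fin l → R', U *ᵥ c = e.col b := by
    intro b
    have hb : e.col b ∈ LinearMap.range Φ := by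
      rw [hrange]
      exact ⟨Pi.single b 1, by simp⟩
    obtain ⟨z, hz⟩ := hb
    rw [← hz]
    clear hz
    induction z using TensorProduct.induction_on with
    | zero => exact ⟨0, by simp⟩
    | tmul r x => exact ⟨r • (algebraMap R R' ∘ t x), by rw [Matrix.mulVec_smul, hUv, hst]; simp [Φ]⟩
    | add x y hx hy =>
      obtain ⟨c, hc⟩ := hx
      obtain ⟨c', hc'⟩ := hy
      exact ⟨c + c', by rw [Matrix.mulVec_add, hc, hc', map_add]⟩
  choose c hc using hV0
  let V₀ : Matrix (Fin l) (Fin k) R' := Matrix.of fun j b => c b j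
  have hV₀ : U * V₀ = e := by
    ext a b
    exact congrFun (hc b) a
  have heU : e * U = U := by
    ext a j
    exact congrFun (hex _ (s (Pi.single j 1)).2) a
  refine ⟨l, P, U, P.map (algebraMap R R') * V₀, hPP, by rw [← Matrix.mul_assoc, hUP, hV₀], ?_, hgU⟩
  have hQQ : P.map (algebraMap R R') * P.map (algebraMap R R') = P.map (algebraMap R R') := by
    rw [← Matrix.map_mul, hPP]
  refine Matrix.ext_of_mulVec_single fun j => ?_
  rw [← sub_eq_zero, ← Matrix.sub_mulVec]
  have hd : U *ᵥ ((P.map (algebraMap R R') * V₀ * U - P.map (algebraMap R R')) *ᵥ Pi.single j 1) = 0 := by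
    rw [Matrix.mulVec_mulVec, Matrix.mul_sub, ← Matrix.mul_assoc, ← Matrix.mul_assoc, hUP, hV₀, heU,
      sub_self, Matrix.zero_mulVec]
  have h2 := hinjU _ hd
  rwa [Matrix.mulVec_mulVec, Matrix.mul_sub, ← Matrix.mul_assoc, ← Matrix.mul_assoc, hQQ] at h2

end Groth.Agent.WittDesc88
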