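import Groth.Agent.WittDesc88.Kernel
import Groth.Agent.WittDesc88.Classical
import Groth.Agent.S12421
import Mathlib.RingTheory.Idempotents
import Mathlib.Algebra.Ring.GeomSum

/-!
Descent of idempotent matrices over truncated Witt vectors.
-/

set_option autoImplicit false

universe u

open scoped TensorProduct
open Matrix

namespace Groth.Agent.WittDesc88

variable (p : ℕ) [Fact p.Prime] (R : Type u) [CommRing R] (R' : Type u) [CommRing R'] [Algebra R R']

local notation "W[" n "]" f => WittGrp.truncMap p n (RingHomClass.toRingHom f)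

/-- An idempotent matrix over `W_n(R')` with a cocycle. -/
structure IsWCocycle (n : ℕ) {k : ℕ} (e : Matrix (Fin k) (Fin k) (TruncatedWittVector p n R'))
    (g : Matrix (Fin k) (Fin k) (TruncatedWittVector p n (R' ⊗[R] R'))) : Prop where
  diag_eq : g.map (W[n] (diag R R')) = e
  cocycle : g.map (W[n] (pr₂₃ R R')) * g.map (W[n] (pr₁₂ R R')) = g.map (W[n] (pr₁₃ R R'))
  left : e.map (W[n] (inc₂ R R')) * g = g
  right : g * e.map (W[n] (inc₁ R R')) = g

section maps

variable {p} {S T U : Type u} [CommRing S] [CommRing T] [CommRing U] {n : ℕ} {a b : Type}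

theorem map_truncMap_truncMap (f : S →+* T) (g : T →+* U) (M : Matrix a b (TruncatedWittVector p n S)) :
    (M.map (WittGrp.truncMap p n f)).map (WittGrp.truncMap p n g) = M.map (WittGrp.truncMap p n (g.comp f)) := by
  rw [WittGrp.truncMap_comp, Matrix.map_map]
  rfl

theorem map_truncMap_congr {f g : S →+* T} (h : ∀ x, f x = g x) (M : Matrix a b (TruncatedWittVector p n S)) :
    M.map (WittGrp.truncMap p n f) = M.map (WittGrp.truncMap p n g) := by
  rw [RingHom.ext h]

theorem map_truncMap_truncate (f : S →+* T) (M : Matrix a b (TruncatedWittVector p (n + 1) S)) :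
    (M.map (WittGrp.truncMap p (n + 1) f)).map (TruncatedWittVector.truncate (Nat.le_succ n)) =
      (M.map (TruncatedWittVector.truncate (Nat.le_succ n))).map (WittGrp.truncMap p n f) := by
  refine Matrix.ext fun i j => ?_
  simp [WittGrp.truncMap_truncateLE]

theorem map_truncMap_ghostTop (f : S →+* T) (M : Matrix a b (TruncatedWittVector p (n + 1) S)) :
    (M.map (WittGrp.truncMap p (n + 1) f)).map (ghostTop p n) = (M.map (ghostTop p n)).map f := by
  refine Matrix.ext fun i j => ?_
  simp [ghostTop_truncMap]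

theorem map_kerIncl_truncMap (f : S →+* T) (M : Matrix a b S) :
    (M.map (kerIncl p n)).map (WittGrp.truncMap p (n + 1) f) = (M.map f).map (kerIncl p n) := by
  refine Matrix.ext fun i j => ?_
  simp [truncMap_kerIncl]

theorem exists_map_kerIncl (M : Matrix a b (TruncatedWittVector p (n + 1) S))
    (h : M.map (TruncatedWittVector.truncate (Nat.le_succ n)) = 0) :
    ∃ A : Matrix a b S, M = A.map (kerIncl p n) := by
  choose A hA using fun i j => exists_kerIncl p n (M i j) (congrFun (congrFun h i) j)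
  exact ⟨Matrix.of A, Matrix.ext hA⟩

theorem map_kerIncl_injective : Function.Injective fun A : Matrix a b S => A.map (kerIncl p n) :=
  Matrix.map_injective (kerIncl_injective p n)

theorem map_kerIncl_truncate (A : Matrix a b S) :
    (A.map (kerIncl p n)).map (TruncatedWittVector.truncate (Nat.le_succ n)) = 0 := by
  refine Matrix.ext fun i j => ?_
  simp [truncate_kerIncl]

theorem exists_map_truncate (M : Matrix a b (TruncatedWittVector p n S)) :
    ∃ N : Matrix a b (TruncatedWittVector p (n + 1) S),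
      N.map (TruncatedWittVector.truncate (Nat.le_succ n)) = M := by
  choose N hN using fun i j => TruncatedWittVector.truncate_surjective (p := p) (R := S) (Nat.le_succ n) (M i j)
  exact ⟨Matrix.of N, Matrix.ext hN⟩

end maps

variable {p R R'} {n k : ℕ} {e : Matrix (Fin k) (Fin k) (TruncatedWittVector p n R')}
  {g : Matrix (Fin k) (Fin k) (TruncatedWittVector p n (R' ⊗[R] R'))}

theorem IsWCocycle.diag_inc₁ {l : ℕ} (M : Matrix (Fin k) (Fin l) (TruncatedWittVector p n R')) :
    (M.map (W[n] (inc₁ R R'))).map (W[n] (diag R R')) = M := by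
  rw [map_truncMap_truncMap, map_truncMap_congr (g := RingHom.id R') (WittDesc88.diag_inc₁),
    WittGrp.truncMap_id]
  simp

theorem IsWCocycle.diag_inc₂ {l : ℕ} (M : Matrix (Fin k) (Fin l) (TruncatedWittVector p n R')) :
    (M.map (W[n] (inc₂ R R'))).map (W[n] (diag R R')) = M := by
  rw [map_truncMap_truncMap, map_truncMap_congr (g := RingHom.id R') (WittDesc88.diag_inc₂),
    WittGrp.truncMap_id]
  simp

theorem IsWCocycle.mul_self (h : IsWCocycle p R R' n e g) : e * e = e := by
  have h1 := congrArg (fun M : Matrix _ _ _ => M.map (W[n] (diag R R'))) h.right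
  simpa only [Matrix.map_mul, h.diag_eq, IsWCocycle.diag_inc₁] using h1

theorem IsWCocycle.mul_eq (h : IsWCocycle p R R' n e g) {l : ℕ}
    {U : Matrix (Fin k) (Fin l) (TruncatedWittVector p n R')}
    (hU : g * U.map (W[n] (inc₁ R R')) = U.map (W[n] (inc₂ R R'))) : e * U = U := by
  have h1 := congrArg (fun M : Matrix (Fin k) (Fin l) _ => M.map (W[n] (diag R R'))) hU
  simpa only [Matrix.map_mul, h.diag_eq, IsWCocycle.diag_inc₁, IsWCocycle.diag_inc₂] using h1

theorem exists_inc_sub [Module.FaithfullyFlat R R'] (d : (R' ⊗[R] R'))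
    (h : pr₁₂ R R' d + pr₂₃ R R' d = pr₁₃ R R' d) : ∃ b : R', d = inc₂ R R' b - inc₁ R R' b := by
  have hz := (Groth.Agent.S12421.result R R' R ((1 : R) ⊗ₜ[R] d)).1 (by
    show (1 : R) ⊗ₜ[R] pr₂₃ R R' d - (1 : R) ⊗ₜ[R] pr₁₃ R R' d + (1 : R) ⊗ₜ[R] pr₁₂ R R' d = 0
    rw [← TensorProduct.tmul_sub, ← TensorProduct.tmul_add, ← h]
    simp)
  obtain ⟨y, hy⟩ := hz
  refine ⟨TensorProduct.lid R R' y, ?_⟩
  have h1 := congrArg (TensorProduct.lid R (R' ⊗[R] R')) hy
  rw [TensorProduct.lid_tmul, one_smul] at h1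
  rw [← h1]
  clear hy h1
  induction y using TensorProduct.induction_on with
  | zero => simp
  | tmul r x => simp [TensorProduct.tmul_smul, TensorProduct.smul_tmul', smul_sub]
  | add x y hx hy => simp only [map_add, hx, hy]; abel

variable [Module.FaithfullyFlat R R']

theorem exists_lift_vectors (hn : 0 < n) (hp : IsNilpotent (p : R))
    {e : Matrix (Fin k) (Fin k) (TruncatedWittVector p (n + 1) R')}
    {g : Matrix (Fin k) (Fin k) (TruncatedWittVector p (n + 1) (R' ⊗[R] R'))} (h : IsWCocycle p R R' (n + 1) e g)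
    {l : ℕ} {P : Matrix (Fin l) (Fin l) (TruncatedWittVector p (n + 1) R)} (hP : P * P = P)
    {U₀ : Matrix (Fin k) (Fin l) (TruncatedWittVector p (n + 1) R')} (hU₀ : e * U₀ = U₀)
    (hUP : U₀ * P.map (W[n + 1] (algebraMap R R')) = U₀)
    (hmod : (g * U₀.map (W[n + 1] (inc₁ R R'))).map (TruncatedWittVector.truncate (Nat.le_succ n)) =
      (U₀.map (W[n + 1] (inc₂ R R'))).map (TruncatedWittVector.truncate (Nat.le_succ n))) :
    ∃ X : Matrix (Fin k) (Fin l) (TruncatedWittVector p (n + 1) R'),
      g * X.map (W[n + 1] (inc₁ R R')) = X.map (W[n + 1] (inc₂ R R')) ∧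
        X * P.map (W[n + 1] (algebraMap R R')) = X ∧
        X.map (TruncatedWittVector.truncate (Nat.le_succ n)) =
          U₀.map (TruncatedWittVector.truncate (Nat.le_succ n)) := by
  set P' := P.map (W[n + 1] (algebraMap R R')) with hP'
  obtain ⟨c, hc⟩ := exists_map_kerIncl (g * U₀.map (W[n + 1] (inc₁ R R')) - U₀.map (W[n + 1] (inc₂ R R')))
    (by rw [Matrix.map_sub _ (map_sub _), hmod, sub_self])
  set G := g.map (ghostTop p n) with hG
  set E := e.map (ghostTop p n) with hE
  have hC : IsCocycle E G :=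
    { diag_eq := by
        have h1 := congrArg (fun M : Matrix _ _ _ => M.map (ghostTop p n)) h.diag_eq
        simpa only [map_truncMap_ghostTop, RingHom.coe_coe] using h1
      cocycle := by
        have h1 := congrArg (fun M : Matrix _ _ _ => M.map (ghostTop p n)) h.cocycle
        simpa only [Matrix.map_mul, map_truncMap_ghostTop, RingHom.coe_coe] using h1
      left := by
        have h1 := congrArg (fun M : Matrix _ _ _ => M.map (ghostTop p n)) h.left
        simpa only [Matrix.map_mul, map_truncMap_ghostTop, RingHom.coe_coe] using h1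
      right := by
        have h1 := congrArg (fun M : Matrix _ _ _ => M.map (ghostTop p n)) h.right
        simpa only [Matrix.map_mul, map_truncMap_ghostTop, RingHom.coe_coe] using h1 }
  obtain ⟨m, Q, A, B, -, hAB, hBA, hGA⟩ := classical_descent hC
  -- idempotent acting from the right
  set S₀ := P.map (ghostTop p n) with hS₀
  set S := S₀.map (algebraMap R R') with hS
  set SC := S₀.map (algebraMap R (R' ⊗[R] R')) with hSC
  have hS₁ : S.map (inc₁ R R') = SC := by
    rw [hS, Matrix.map_map]; congr 1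
  have hS₂ : S.map (inc₂ R R') = SC := by
    rw [hS, Matrix.map_map]; congr 1; funext x; exact (inc₂ R R').commutes x
  have hSS : S * S = S := by
    rw [hS, ← Matrix.map_mul, hS₀, ← Matrix.map_mul, hP]
  have hPS : P'.map (ghostTop p n) = S := map_truncMap_ghostTop _ _
  have hP₁₂ : P'.map (W[n + 1] (inc₂ R R')) = P'.map (W[n + 1] (inc₁ R R')) := by
    rw [hP', map_truncMap_truncMap, map_truncMap_truncMap]
    exact map_truncMap_congr (fun x => ((inc₂ R R').commutes x).trans ((inc₁ R R').commutes x).symm) _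
  have hcS : c * SC = c := by
    apply map_kerIncl_injective (p := p) (n := n)
    show (c * SC).map (kerIncl p n) = c.map (kerIncl p n)
    have h1 : (c * SC).map (kerIncl p n) = c.map (kerIncl p n) * P'.map (W[n + 1] (inc₁ R R')) := by
      rw [map_kerIncl_mul, map_truncMap_ghostTop, hPS]
      exact congrArg (fun M : Matrix _ _ _ => (c * M).map (kerIncl p n)) hS₁.symm
    rw [h1, ← hc, Matrix.sub_mul, Matrix.mul_assoc, ← Matrix.map_mul, hUP, ← hP₁₂, ← Matrix.map_mul, hUP]
  have hEc : E.map (inc₂ R R') * c = c := by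
    apply map_kerIncl_injective (p := p) (n := n)
    show (E.map (inc₂ R R') * c).map (kerIncl p n) = c.map (kerIncl p n)
    have h1 : (E.map (inc₂ R R') * c).map (kerIncl p n) = e.map (W[n + 1] (inc₂ R R')) * c.map (kerIncl p n) := by
      rw [mul_map_kerIncl, map_truncMap_ghostTop]
      rfl
    rw [h1, ← hc, Matrix.mul_sub, ← Matrix.mul_assoc, h.left, ← Matrix.map_mul, hU₀]
  have hcc : G.map (pr₂₃ R R') * c.map (pr₁₂ R R') + c.map (pr₂₃ R R') = c.map (pr₁₃ R R') := by
    apply map_kerIncl_injective (p := p) (n := n)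
    show (G.map (pr₂₃ R R') * c.map (pr₁₂ R R') + c.map (pr₂₃ R R')).map (kerIncl p n) =
      (c.map (pr₁₃ R R')).map (kerIncl p n)
    have hpr : ∀ f : (R' ⊗[R] R') →ₐ[R] R' ⊗[R] (R' ⊗[R] R'), (c.map f).map (kerIncl p n) =
        (g * U₀.map (W[n + 1] (inc₁ R R')) - U₀.map (W[n + 1] (inc₂ R R'))).map (W[n + 1] f) := fun f => by
      rw [hc, map_kerIncl_truncMap]
      rfl
    have h1 : (G.map (pr₂₃ R R') * c.map (pr₁₂ R R')).map (kerIncl p n) =
        g.map (W[n + 1] (pr₂₃ R R')) * (c.map (pr₁₂ R R')).map (kerIncl p n) := by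
      rw [mul_map_kerIncl, map_truncMap_ghostTop]
      rfl
    rw [Matrix.map_add _ (map_add _), h1, hpr, hpr, hpr]
    simp only [Matrix.map_sub _ (map_sub _), Matrix.map_mul, map_truncMap_truncMap, Matrix.mul_sub,
      ← Matrix.mul_assoc, h.cocycle]
    have e1 : U₀.map (WittGrp.truncMap p (n + 1) ((RingHomClass.toRingHom (pr₁₂ R R')).comp
        (RingHomClass.toRingHom (inc₁ R R')))) = U₀.map (WittGrp.truncMap p (n + 1)
        ((RingHomClass.toRingHom (pr₁₃ R R')).comp (RingHomClass.toRingHom (inc₁ R R')))) :=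
      map_truncMap_congr (fun x => by simp [Algebra.TensorProduct.one_def]) _
    have e2 : U₀.map (WittGrp.truncMap p (n + 1) ((RingHomClass.toRingHom (pr₁₂ R R')).comp
        (RingHomClass.toRingHom (inc₂ R R')))) = U₀.map (WittGrp.truncMap p (n + 1)
        ((RingHomClass.toRingHom (pr₂₃ R R')).comp (RingHomClass.toRingHom (inc₁ R R')))) :=
      map_truncMap_congr (fun x => by simp) _
    have e3 : U₀.map (WittGrp.truncMap p (n + 1) ((RingHomClass.toRingHom (pr₂₃ R R')).comp
        (RingHomClass.toRingHom (inc₂ R R')))) = U₀.map (WittGrp.truncMap p (n + 1)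
        ((RingHomClass.toRingHom (pr₁₃ R R')).comp (RingHomClass.toRingHom (inc₂ R R')))) :=
      map_truncMap_congr (fun x => by simp) _
    rw [e1, e2, e3]
    abel
  -- untwist
  set d := B.map (inc₂ R R') * c with hd
  have hAd : A.map (inc₂ R R') * d = c := by
    rw [hd, ← Matrix.mul_assoc, ← Matrix.map_mul, hAB, hEc]
  have hdS : d * SC = d := by rw [hd, Matrix.mul_assoc, hcS]
  set Q' := Q.map (algebraMap R R') with hQ'
  have hQd : Q'.map (inc₂ R R') * d = d := by
    rw [← hBA, hd, Matrix.map_mul, Matrix.mul_assoc]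
    exact congrArg _ hAd
  have hdd : d.map (pr₁₂ R R') + d.map (pr₂₃ R R') = d.map (pr₁₃ R R') := by
    have k1 : ∀ f : (R' ⊗[R] R') →ₐ[R] R' ⊗[R] (R' ⊗[R] R'), c.map f = (A.map (inc₂ R R')).map f * d.map f := fun f => by
      rw [← Matrix.map_mul, hAd]
    have a1 : (A.map (inc₂ R R')).map (pr₁₂ R R') = (A.map (inc₁ R R')).map (pr₂₃ R R') := by
      rw [Matrix.map_map, Matrix.map_map]; congr 1
    have a2 : (A.map (inc₂ R R')).map (pr₁₃ R R') = (A.map (inc₂ R R')).map (pr₂₃ R R') := by
      rw [Matrix.map_map, Matrix.map_map]; congr 1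
    rw [k1, k1, k1, a1, a2, ← Matrix.mul_assoc, ← Matrix.map_mul, hGA, ← Matrix.mul_add] at hcc
    have k2 := congrArg (fun M : Matrix _ _ _ => (B.map (inc₂ R R')).map (pr₂₃ R R') * M) hcc
    simp only [← Matrix.mul_assoc, ← Matrix.map_mul, hBA] at k2
    have q : ∀ f : (R' ⊗[R] R') →ₐ[R] R' ⊗[R] (R' ⊗[R] R'), (Q'.map (inc₂ R R')).map (pr₂₃ R R') * d.map f = d.map f := fun f => by
      have : (Q'.map (inc₂ R R')).map (pr₂₃ R R') = (Q'.map (inc₂ R R')).map f := by
        rw [hQ', Matrix.map_map, Matrix.map_map, Matrix.map_map, Matrix.map_map]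
        congr 1
        funext x
        show pr₂₃ R R' (inc₂ R R' (algebraMap R R' x)) = f (inc₂ R R' (algebraMap R R' x))
        rw [AlgHom.commutes, AlgHom.commutes, AlgHom.commutes]
      rw [this, ← Matrix.map_mul, hQd]
    rw [Matrix.mul_add, q, q, q] at k2
    exact k2
  choose b₀ hb₀ using fun i j => exists_inc_sub (d i j) (congrFun (congrFun hdd i) j)
  obtain ⟨b, hb⟩ : ∃ b, b = Matrix.of b₀ * S := ⟨_, rfl⟩
  have hdb : d = b.map (inc₂ R R') - b.map (inc₁ R R') := by
    have h1 : d = (Matrix.of b₀).map (inc₂ R R') - (Matrix.of b₀).map (inc₁ R R') := Matrix.ext hb₀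
    rw [hb, Matrix.map_mul, Matrix.map_mul, hS₁, hS₂, ← Matrix.sub_mul, ← h1, hdS]
  refine ⟨U₀ + (A * b).map (kerIncl p n), ?_, ?_, ?_⟩
  · rw [Matrix.map_add _ (map_add _), Matrix.map_add _ (map_add _), Matrix.mul_add, map_kerIncl_truncMap,
      map_kerIncl_truncMap, mul_map_kerIncl]
    have h2 : G * (A * b).map (inc₁ R R') = (A * b).map (inc₂ R R') - c := by
      rw [Matrix.map_mul, Matrix.map_mul, ← Matrix.mul_assoc, hGA, ← hAd, ← Matrix.mul_sub, hdb, sub_sub_cancel]
    have h3 : G * (A * b).map (RingHomClass.toRingHom (inc₁ R R') : R' →+* (R' ⊗[R] R')) =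
        (A * b).map (RingHomClass.toRingHom (inc₂ R R') : R' →+* (R' ⊗[R] R')) - c := h2
    rw [← hG, h3, Matrix.map_sub _ (map_sub _), ← hc]
    abel
  · rw [Matrix.add_mul, hUP, map_kerIncl_mul, hPS, Matrix.mul_assoc, hb, Matrix.mul_assoc, hSS]
  · rw [Matrix.map_add _ (map_add _), map_kerIncl_truncate, add_zero]

theorem witt_descent_step (hn : 0 < n) (hp : IsNilpotent (p : R))
    {e : Matrix (Fin k) (Fin k) (TruncatedWittVector p (n + 1) R')}
    {g : Matrix (Fin k) (Fin k) (TruncatedWittVector p (n + 1) (R' ⊗[R] R'))} (h : IsWCocycle p R R' (n + 1) e g)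
    {l : ℕ} {Pn : Matrix (Fin l) (Fin l) (TruncatedWittVector p n R)}
    {Un : Matrix (Fin k) (Fin l) (TruncatedWittVector p n R')}
    {Vn : Matrix (Fin l) (Fin k) (TruncatedWittVector p n R')} (hPn : Pn * Pn = Pn)
    (hUVn : Un * Vn = e.map (TruncatedWittVector.truncate (Nat.le_succ n)))
    (hVUn : Vn * Un = Pn.map (W[n] (algebraMap R R')))
    (hgn : g.map (TruncatedWittVector.truncate (Nat.le_succ n)) * Un.map (W[n] (inc₁ R R')) =
      Un.map (W[n] (inc₂ R R'))) :
    ∃ (P : Matrix (Fin l) (Fin l) (TruncatedWittVector p (n + 1) R))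
      (U : Matrix (Fin k) (Fin l) (TruncatedWittVector p (n + 1) R'))
      (V : Matrix (Fin l) (Fin k) (TruncatedWittVector p (n + 1) R')),
      P * P = P ∧ U * V = e ∧ V * U = P.map (W[n + 1] (algebraMap R R')) ∧
        g * U.map (W[n + 1] (inc₁ R R')) = U.map (W[n + 1] (inc₂ R R')) := by
  have hnil : ∀ {T : Type u} [CommRing T], IsNilpotent (p : T) → ∀ {m : ℕ}
      (M : Matrix (Fin m) (Fin m) (TruncatedWittVector p (n + 1) T)),
      M.map (TruncatedWittVector.truncate (Nat.le_succ n)) = 0 → IsNilpotent M := fun hpT _ M hM => by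
    obtain ⟨A, rfl⟩ := exists_map_kerIncl M hM
    exact isNilpotent_map_kerIncl p n hn hpT A
  obtain ⟨P, hP, hPt⟩ := exists_isIdempotentElem_eq_of_ker_isNilpotent
    ((TruncatedWittVector.truncate (p := p) (R := R) (Nat.le_succ n)).mapMatrix (m := Fin l))
    (fun M hM => hnil hp M hM) Pn (exists_map_truncate Pn) hPn
  change P.map (TruncatedWittVector.truncate (Nat.le_succ n)) = Pn at hPt
  set P' := P.map (W[n + 1] (algebraMap R R')) with hP'
  have hPP : P' * P' = P' := by rw [hP', ← Matrix.map_mul, hP.eq]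
  have hP't : P'.map (TruncatedWittVector.truncate (Nat.le_succ n)) = Pn.map (W[n] (algebraMap R R')) := by
    rw [hP', map_truncMap_truncate, hPt]
  have hn' : IsWCocycle p R R' n (e.map (TruncatedWittVector.truncate (Nat.le_succ n)))
      (g.map (TruncatedWittVector.truncate (Nat.le_succ n))) :=
    { diag_eq := by rw [← map_truncMap_truncate, h.diag_eq]
      cocycle := by
        rw [← map_truncMap_truncate, ← map_truncMap_truncate, ← map_truncMap_truncate, ← Matrix.map_mul, h.cocycle]
      left := by rw [← map_truncMap_truncate, ← Matrix.map_mul, h.left]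
      right := by rw [← map_truncMap_truncate, ← Matrix.map_mul, h.right] }
  have hUn : e.map (TruncatedWittVector.truncate (Nat.le_succ n)) * Un = Un := hn'.mul_eq hgn
  have hUPn : Un * Pn.map (W[n] (algebraMap R R')) = Un := by rw [← hVUn, ← Matrix.mul_assoc, hUVn, hUn]
  obtain ⟨Ul, hUl⟩ := exists_map_truncate Un
  set U₀ := e * Ul * P' with hU₀
  have hU₀t : U₀.map (TruncatedWittVector.truncate (Nat.le_succ n)) = Un := by
    rw [hU₀, Matrix.map_mul, Matrix.map_mul, hUl, hP't, hUn, hUPn]
  obtain ⟨X, hgX, hXP, hXt⟩ := exists_lift_vectors hn hp h hP.eq (U₀ := U₀)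
    (by rw [hU₀, ← Matrix.mul_assoc, ← Matrix.mul_assoc, h.mul_self])
    (by rw [hU₀, Matrix.mul_assoc, hPP])
    (by rw [Matrix.map_mul, map_truncMap_truncate, map_truncMap_truncate, hU₀t, hgn])
  rw [hU₀t] at hXt
  have heX : e * X = X := h.mul_eq hgX
  obtain ⟨Vl, hVl⟩ := exists_map_truncate Vn
  set V₀ := P' * Vl * e with hV₀
  set N := P' - V₀ * X with hN
  have hPV : P' * V₀ = V₀ := by rw [hV₀, ← Matrix.mul_assoc, ← Matrix.mul_assoc, hPP]
  have hV₀e : V₀ * e = V₀ := by rw [hV₀, Matrix.mul_assoc, h.mul_self]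
  have hPN : P' * N = N := by rw [hN, Matrix.mul_sub, hPP, ← Matrix.mul_assoc, hPV]
  have hNP : N * P' = N := by rw [hN, Matrix.sub_mul, hPP, Matrix.mul_assoc, hXP]
  have hp' : IsNilpotent (p : R') := by simpa using hp.map (algebraMap R R')
  have hPn2 : Pn.map (W[n] (algebraMap R R')) * Pn.map (W[n] (algebraMap R R')) =
      Pn.map (W[n] (algebraMap R R')) := by rw [← Matrix.map_mul, hPn]
  obtain ⟨r, hr⟩ := hnil hp' N (by
    rw [hN, Matrix.map_sub _ (map_sub _), Matrix.map_mul, hV₀, Matrix.map_mul, Matrix.map_mul, hVl, hP't, hXt,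
      Matrix.mul_assoc, hUn, Matrix.mul_assoc, hVUn, hPn2, sub_self])
  set S' := ∑ i ∈ Finset.range r, N ^ i with hS'
  set V := S' * V₀ with hV
  have hS1 : S' * (1 - N) = 1 := by rw [hS', geom_sum_mul_neg, hr, sub_zero]
  have hVX : V * X = P' := by
    have h1 : V₀ * X = (1 - N) * P' := by
      rw [Matrix.sub_mul, Matrix.one_mul, hNP, hN, sub_sub_cancel]
    rw [hV, Matrix.mul_assoc, h1, ← Matrix.mul_assoc, hS1, Matrix.one_mul]
  refine ⟨P, X, V, hP.eq, ?_, hVX, hgX⟩
  have hFe : X * V * e = X * V := by rw [hV, Matrix.mul_assoc, Matrix.mul_assoc, hV₀e]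
  have heF : e * (X * V) = X * V := by rw [← Matrix.mul_assoc, heX]
  have hFF : X * V * (X * V) = X * V := by
    rw [Matrix.mul_assoc, ← Matrix.mul_assoc V, hVX, ← Matrix.mul_assoc, hXP]
  have hid : (e - X * V) * (e - X * V) = e - X * V := by
    rw [Matrix.sub_mul, Matrix.mul_sub, Matrix.mul_sub, h.mul_self, heF, hFe, hFF, sub_self, sub_zero]
  have hmod : (e - X * V).map (TruncatedWittVector.truncate (Nat.le_succ n)) = 0 := by
    have h2 := congrArg (fun M : Matrix _ _ _ => M.map (TruncatedWittVector.truncate (Nat.le_succ n))) hVX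
    simp only [Matrix.map_mul, hXt, hP't] at h2
    have h3 : V.map (TruncatedWittVector.truncate (Nat.le_succ n)) *
        e.map (TruncatedWittVector.truncate (Nat.le_succ n)) =
        V.map (TruncatedWittVector.truncate (Nat.le_succ n)) := by
      rw [← Matrix.map_mul, hV, Matrix.mul_assoc, hV₀e]
    rw [Matrix.map_sub _ (map_sub _), Matrix.map_mul, hXt, sub_eq_zero, ← h3, ← hUVn, ← Matrix.mul_assoc _ Un,
      h2, ← Matrix.mul_assoc, hUPn]
  obtain ⟨r', hr'⟩ := hnil hp' (e - X * V) hmod
  have hpow : ∀ i : ℕ, (e - X * V) ^ (i + 1) = e - X * V := fun i => IsIdempotentElem.pow_succ_eq i hid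
  have h0 : e - X * V = 0 := by rw [← hpow r', pow_succ, hr', Matrix.zero_mul]
  exact (sub_eq_zero.1 h0).symm

theorem exists_matrices (hp : IsNilpotent (p : R)) : ∀ (n : ℕ) {k : ℕ}
    {e : Matrix (Fin k) (Fin k) (TruncatedWittVector p n R')}
    {g : Matrix (Fin k) (Fin k) (TruncatedWittVector p n (R' ⊗[R] R'))}, IsWCocycle p R R' n e g →
    ∃ (l : ℕ) (P : Matrix (Fin l) (Fin l) (TruncatedWittVector p n R))
      (U : Matrix (Fin k) (Fin l) (TruncatedWittVector p n R'))
      (V : Matrix (Fin l) (Fin k) (TruncatedWittVector p n R')),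
      P * P = P ∧ U * V = e ∧ V * U = P.map (W[n] (algebraMap R R')) ∧
        g * U.map (W[n] (inc₁ R R')) = U.map (W[n] (inc₂ R R'))
  | 0, k, e, g, _ => by
    have : Subsingleton (TruncatedWittVector p 0 R') := ⟨fun a b => TruncatedWittVector.ext fun i => i.elim0⟩
    have : Subsingleton (TruncatedWittVector p 0 (R' ⊗[R] R')) := ⟨fun a b => TruncatedWittVector.ext fun i => i.elim0⟩
    exact ⟨0, 0, 0, 0, Subsingleton.elim _ _, Subsingleton.elim _ _, Subsingleton.elim _ _,
      Subsingleton.elim _ _⟩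
  | 1, k, e, g, h => by
    have hκ : ∀ {T : Type u} [CommRing T] (w : TruncatedWittVector p 1 T), w = kerIncl p 0 (ghostTop p 0 w) := by
      intro T _ w
      obtain ⟨a, rfl⟩ := exists_kerIncl p 0 w (TruncatedWittVector.ext fun i => i.elim0)
      rw [ghostTop_kerIncl, pow_zero, one_mul]
    have hm : ∀ {T : Type u} [CommRing T] {a b : Type} (M : Matrix a b (TruncatedWittVector p 1 T)),
        M = (M.map (ghostTop p 0)).map (kerIncl p 0) := fun M => Matrix.ext fun i j => hκ _
    have hmul : ∀ {T : Type u} [CommRing T] {a b c : ℕ} (A : Matrix (Fin a) (Fin b) T)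
        (B : Matrix (Fin b) (Fin c) T),
        A.map (kerIncl p 0) * B.map (kerIncl p 0) = (A * B).map (kerIncl p 0) := by
      intro T _ a b c A B
      rw [mul_map_kerIncl]
      have : (A.map (kerIncl p 0)).map (ghostTop p 0) = A := by
        refine Matrix.ext fun i j => ?_
        simp [ghostTop_kerIncl]
      rw [this]
    obtain ⟨l, P, U, V, hP, hUV, hVU, hgU⟩ := classical_descent (R := R) (R' := R')
      (e := e.map (ghostTop p 0)) (g := g.map (ghostTop p 0))
      { diag_eq := by
          have h1 := congrArg (fun M : Matrix _ _ _ => M.map (ghostTop p 0)) h.diag_eq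
          simpa only [map_truncMap_ghostTop, RingHom.coe_coe] using h1
        cocycle := by
          have h1 := congrArg (fun M : Matrix _ _ _ => M.map (ghostTop p 0)) h.cocycle
          simpa only [Matrix.map_mul, map_truncMap_ghostTop, RingHom.coe_coe] using h1
        left := by
          have h1 := congrArg (fun M : Matrix _ _ _ => M.map (ghostTop p 0)) h.left
          simpa only [Matrix.map_mul, map_truncMap_ghostTop, RingHom.coe_coe] using h1
        right := by
          have h1 := congrArg (fun M : Matrix _ _ _ => M.map (ghostTop p 0)) h.right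
          simpa only [Matrix.map_mul, map_truncMap_ghostTop, RingHom.coe_coe] using h1 }
    refine ⟨l, P.map (kerIncl p 0), U.map (kerIncl p 0), V.map (kerIncl p 0), by rw [hmul, hP],
      by rw [hmul, hUV, ← hm], by rw [hmul, hVU, map_kerIncl_truncMap]; rfl, ?_⟩
    rw [map_kerIncl_truncMap, map_kerIncl_truncMap, mul_map_kerIncl]
    exact congrArg (fun M : Matrix _ _ _ => M.map (kerIncl p 0)) hgU
  | n + 2, k, e, g, h => by
    have hn' : IsWCocycle p R R' (n + 1) (e.map (TruncatedWittVector.truncate (Nat.le_succ (n + 1))))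
        (g.map (TruncatedWittVector.truncate (Nat.le_succ (n + 1)))) :=
      { diag_eq := by rw [← map_truncMap_truncate, h.diag_eq]
        cocycle := by
          rw [← map_truncMap_truncate, ← map_truncMap_truncate, ← map_truncMap_truncate, ← Matrix.map_mul, h.cocycle]
        left := by rw [← map_truncMap_truncate, ← Matrix.map_mul, h.left]
        right := by rw [← map_truncMap_truncate, ← Matrix.map_mul, h.right] }
    obtain ⟨l, Pn, Un, Vn, h1, h2, h3, h4⟩ := exists_matrices hp (n + 1) hn'
    exact ⟨l, witt_descent_step n.succ_pos hp h h1 h2 h3 h4⟩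

end Groth.Agent.WittDesc88
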