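import Groth.Agent.WittDesc88.ExtOne
import Mathlib.LinearAlgebra.Matrix.ToLin
import Mathlib.RingTheory.Finiteness.Projective

/-!
Descent data of finite projective modules for extension of scalars, through idempotent matrices.
-/

set_option autoImplicit false

universe u v w

open CategoryTheory Opposite Matrix

namespace Groth.Agent.WittDesc88

variable {C : Type w} [Category.{v} C] {G : Cᵒᵖ ⥤ CommRingCat.{u}} {S X : C} {f : X ⟶ S}
  (D : (G.toPseudofunctor.comp CommRingCat.moduleCatExtendScalarsPseudofunctor.{u}).DescentData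
    (fun _ : PUnit.{u + 1} => f))

/-- The module under a descent datum. -/
noncomputable def modOf : ModuleCat.{u} (G.obj (op X)) := D.obj PUnit.unit

/-- A finite system of generators with coordinates. -/
structure Coords (k : ℕ) where
  /-- the generators -/
  gen : Fin k → modOf D
  /-- the coordinates -/
  coord : modOf D →ₗ[G.obj (op X)] (Fin k → G.obj (op X))
  sum_coord : ∀ m, ∑ a, coord m a • gen a = m

theorem exists_coords (h₁ : Module.Finite (G.obj (op X)) (modOf D))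
    (h₂ : Module.Projective (G.obj (op X)) (modOf D)) : ∃ k, Nonempty (Coords D k) := by
  obtain ⟨k, π, hπ⟩ := Module.Finite.exists_fin' (G.obj (op X)) (modOf D)
  obtain ⟨i, hi⟩ := Module.projective_lifting_property π LinearMap.id hπ
  refine ⟨k, ⟨fun a => π (Pi.single a 1), i, fun m => ?_⟩⟩
  have h : i m = ∑ a, i m a • (Pi.single a 1 : Fin k → G.obj (op X)) := by
    conv_lhs => rw [← Finset.univ_sum_single (i m)]
    simp [← Pi.single_smul]
  conv_rhs => rw [← LinearMap.id_apply (R := G.obj (op X)) m, ← hi, LinearMap.comp_apply, h]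
  simp only [map_sum, map_smul]

/-- The hom of a descent datum, between extensions of scalars. -/
noncomputable def homAt {Y : C} (q : Y ⟶ S) (f₁ f₂ : Y ⟶ X) (hf₁ : f₁ ≫ f = q) (hf₂ : f₂ ≫ f = q) :
    (ModuleCat.extendScalars.{u, u, u} (G.map f₁.op).hom).obj (modOf D) ⟶
      (ModuleCat.extendScalars.{u, u, u} (G.map f₂.op).hom).obj (modOf D) :=
  D.hom q (i₁ := PUnit.unit) (i₂ := PUnit.unit) f₁ f₂ hf₁ hf₂

theorem homAt_self {Y : C} (q : Y ⟶ S) (h : Y ⟶ X) (hh : h ≫ f = q) : homAt D q h h hh hh = 𝟙 _ :=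
  D.hom_self q h hh

theorem homAt_comp {Y : C} (q : Y ⟶ S) (f₁ f₂ f₃ : Y ⟶ X) (hf₁ : f₁ ≫ f = q) (hf₂ : f₂ ≫ f = q)
    (hf₃ : f₃ ≫ f = q) :
    homAt D q f₁ f₂ hf₁ hf₂ ≫ homAt D q f₂ f₃ hf₂ hf₃ = homAt D q f₁ f₃ hf₁ hf₃ :=
  D.hom_comp q f₁ f₂ f₃ hf₁ hf₂ hf₃

theorem homAt_pull {Y Y' : C} (q : Y ⟶ S) (f₁ f₂ : Y ⟶ X) (hf₁ : f₁ ≫ f = q) (hf₂ : f₂ ≫ f = q)
    (g : Y' ⟶ Y) (q' : Y' ⟶ S) (hq : g ≫ q = q') (h₁' : (g ≫ f₁) ≫ f = q') (h₂' : (g ≫ f₂) ≫ f = q')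
    (c₂ : f₂.op.toLoc ≫ g.op.toLoc = (g ≫ f₂).op.toLoc) (m : modOf D) :
    (compIso G _ _ _ c₂ (modOf D)).hom.hom
        ((homAt D q' (g ≫ f₁) (g ≫ f₂) h₁' h₂').hom (ext1 (G.map (g ≫ f₁).op) (modOf D) m)) =
      ext1 (G.map g.op) _ ((homAt D q f₁ f₂ hf₁ hf₂).hom (ext1 (G.map f₁.op) (modOf D) m)) := by
  have c₁ : f₁.op.toLoc ≫ g.op.toLoc = (g ≫ f₁).op.toLoc := rfl
  have e : (compIso G _ _ _ c₁ (modOf D)).hom ≫
      (ModuleCat.extendScalars.{u, u, u} (G.map g.op).hom).map (homAt D q f₁ f₂ hf₁ hf₂) ≫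
        (compIso G _ _ _ c₂ (modOf D)).inv = homAt D q' (g ≫ f₁) (g ≫ f₂) h₁' h₂' :=
    D.pullHom_hom g q q' hq f₁ f₂ hf₁ hf₂ (g ≫ f₁) (g ≫ f₂) rfl rfl
  have e2 : homAt D q' (g ≫ f₁) (g ≫ f₂) h₁' h₂' ≫ (compIso G _ _ _ c₂ (modOf D)).hom =
      (compIso G _ _ _ c₁ (modOf D)).hom ≫
        (ModuleCat.extendScalars.{u, u, u} (G.map g.op).hom).map (homAt D q f₁ f₂ hf₁ hf₂) := by
    exact (Iso.eq_comp_inv _).1 (e.symm.trans (Category.assoc _ _ _).symm)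
  refine (ConcreteCategory.congr_hom e2 (ext1 (G.map (g ≫ f₁).op) (modOf D) m)).trans ?_
  refine Eq.trans ?_ (map_ext1 (G.map g.op) (homAt D q f₁ f₂ hf₁ hf₂) _)
  exact congrArg ((ModuleCat.extendScalars.{u, u, u} (G.map g.op).hom).map (homAt D q f₁ f₂ hf₁ hf₂)).hom
    (compIso_ext1 G _ _ _ c₁ (modOf D) m)

variable {D} {k : ℕ} (c : Coords D k)

/-- The idempotent matrix of the coordinates. -/
noncomputable def Coords.idem : Matrix (Fin k) (Fin k) (G.obj (op X)) :=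
  Matrix.of fun b a => c.coord (c.gen a) b

theorem Coords.coord_sum_gen (v : Fin k → G.obj (op X)) :
    c.coord (∑ a, v a • c.gen a) = c.idem *ᵥ v := by
  funext b
  simp [Coords.idem, Matrix.mulVec, dotProduct, mul_comm]

theorem Coords.exists_at {Y : C} (h : Y ⟶ X) :
    ∃ α : (ModuleCat.extendScalars.{u, u, u} (G.map h.op).hom).obj (modOf D) →ₗ[G.obj (op Y)]
        (Fin k → G.obj (op Y)),
      ∀ m, α (ext1 (G.map h.op) (modOf D) m) = (G.map h.op).hom ∘ c.coord m := by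
  obtain ⟨α, hα⟩ := exists_extend (G.map h.op) (N := ModuleCat.of (G.obj (op Y)) (Fin k → G.obj (op Y)))
    (fun m : modOf D => ((G.map h.op).hom ∘ c.coord m : Fin k → G.obj (op Y)))
    (fun x y => by funext b; simp) (fun a m => by funext b; simp)
  exact ⟨α.hom, hα⟩

/-- Coordinates after base change. -/
noncomputable def Coords.at {Y : C} (h : Y ⟶ X) :
    (ModuleCat.extendScalars.{u, u, u} (G.map h.op).hom).obj (modOf D) →ₗ[G.obj (op Y)]
      (Fin k → G.obj (op Y)) :=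
  (c.exists_at h).choose

theorem Coords.at_ext1 {Y : C} (h : Y ⟶ X) (m : modOf D) :
    c.at h (ext1 (G.map h.op) (modOf D) m) = (G.map h.op).hom ∘ c.coord m :=
  (c.exists_at h).choose_spec m

theorem Coords.sum_at {Y : C} (h : Y ⟶ X)
    (z : (ModuleCat.extendScalars.{u, u, u} (G.map h.op).hom).obj (modOf D)) :
    ∑ b, c.at h z b • ext1 (G.map h.op) (modOf D) (c.gen b) = z := by
  let ψ : (ModuleCat.extendScalars.{u, u, u} (G.map h.op).hom).obj (modOf D) ⟶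
      (ModuleCat.extendScalars.{u, u, u} (G.map h.op).hom).obj (modOf D) :=
    sumSMul (c.at h) fun b => ext1 (G.map h.op) (modOf D) (c.gen b)
  have hval : ∀ z, ψ.hom z = ∑ b, c.at h z b • ext1 (G.map h.op) (modOf D) (c.gen b) := fun z =>
    sumSMul_apply _ _ z
  have hψ : ψ = 𝟙 _ := ext1_hom_ext _ fun m => by
    rw [hval, c.at_ext1]
    conv_rhs => rw [← c.sum_coord m, ModuleCat.hom_id, LinearMap.id_apply, ext1_sum]
    exact Finset.sum_congr rfl fun b _ => (ext1_smul _ _ _).symm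
  rw [← hval z, hψ]
  rfl

/-- The transition matrix of a descent datum. -/
noncomputable def Coords.trans {Y : C} (q : Y ⟶ S) (f₁ f₂ : Y ⟶ X) (hf₁ : f₁ ≫ f = q) (hf₂ : f₂ ≫ f = q) :
    Matrix (Fin k) (Fin k) (G.obj (op Y)) :=
  Matrix.of fun b a =>
    c.at f₂ ((homAt D q f₁ f₂ hf₁ hf₂).hom (ext1 (G.map f₁.op) (modOf D) (c.gen a))) b

theorem Coords.homAt_gen {Y : C} (q : Y ⟶ S) (f₁ f₂ : Y ⟶ X) (hf₁ : f₁ ≫ f = q) (hf₂ : f₂ ≫ f = q)
    (a : Fin k) :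
    (homAt D q f₁ f₂ hf₁ hf₂).hom (ext1 (G.map f₁.op) (modOf D) (c.gen a)) =
      ∑ b, c.trans q f₁ f₂ hf₁ hf₂ b a • ext1 (G.map f₂.op) (modOf D) (c.gen b) :=
  (c.sum_at f₂ _).symm

theorem Coords.homAt_vec {Y : C} (q : Y ⟶ S) (f₁ f₂ : Y ⟶ X) (hf₁ : f₁ ≫ f = q) (hf₂ : f₂ ≫ f = q)
    (v : Fin k → G.obj (op X)) :
    (homAt D q f₁ f₂ hf₁ hf₂).hom (ext1 (G.map f₁.op) (modOf D) (∑ a, v a • c.gen a)) =
      ∑ b, (c.trans q f₁ f₂ hf₁ hf₂ *ᵥ ((G.map f₁.op).hom ∘ v)) b •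
        ext1 (G.map f₂.op) (modOf D) (c.gen b) := by
  rw [ext1_sum, map_sum]
  simp only [ext1_smul, map_smul, c.homAt_gen, Finset.smul_sum, smul_smul]
  rw [Finset.sum_comm]
  refine Finset.sum_congr rfl fun b _ => ?_
  rw [← Finset.sum_smul]
  congr 1
  exact Finset.sum_congr rfl fun a _ => mul_comm _ _

theorem Coords.trans_self {Y : C} (q : Y ⟶ S) (h : Y ⟶ X) (hh : h ≫ f = q) :
    c.trans q h h hh hh = c.idem.map (G.map h.op).hom := by
  refine Matrix.ext fun b a => ?_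
  show c.at h ((homAt D q h h hh hh).hom _) b = _
  rw [homAt_self]
  exact congrFun (c.at_ext1 h (c.gen a)) b

theorem Coords.trans_comp {Y : C} (q : Y ⟶ S) (f₁ f₂ f₃ : Y ⟶ X) (hf₁ : f₁ ≫ f = q) (hf₂ : f₂ ≫ f = q)
    (hf₃ : f₃ ≫ f = q) :
    c.trans q f₂ f₃ hf₂ hf₃ * c.trans q f₁ f₂ hf₁ hf₂ = c.trans q f₁ f₃ hf₁ hf₃ := by
  refine Matrix.ext fun b a => ?_
  show _ = c.at f₃ ((homAt D q f₁ f₃ hf₁ hf₃).hom _) b
  rw [← homAt_comp D q f₁ f₂ f₃ hf₁ hf₂ hf₃, ModuleCat.hom_comp, LinearMap.comp_apply, c.homAt_gen,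
    map_sum, map_sum, Finset.sum_apply, Matrix.mul_apply]
  refine Finset.sum_congr rfl fun j _ => ?_
  rw [map_smul, map_smul]
  exact mul_comm _ _

theorem Coords.trans_pull {Y Y' : C} (q : Y ⟶ S) (f₁ f₂ : Y ⟶ X) (hf₁ : f₁ ≫ f = q) (hf₂ : f₂ ≫ f = q)
    (g : Y' ⟶ Y) (q' : Y' ⟶ S) (hq : g ≫ q = q') (gf₁ gf₂ : Y' ⟶ X) (h₁ : g ≫ f₁ = gf₁) (h₂ : g ≫ f₂ = gf₂)
    (h₁' : gf₁ ≫ f = q') (h₂' : gf₂ ≫ f = q') :
    c.trans q' gf₁ gf₂ h₁' h₂' = (c.trans q f₁ f₂ hf₁ hf₂).map (G.map g.op).hom := by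
  subst h₁ h₂
  have c₂ : f₂.op.toLoc ≫ g.op.toLoc = (g ≫ f₂).op.toLoc := rfl
  have hG : ∀ x, (G.map (g ≫ f₂).op).hom x = (G.map g.op).hom ((G.map f₂.op).hom x) := fun x => by
    rw [op_comp, G.map_comp]
    rfl
  have hleft : c.idem.map (G.map (g ≫ f₂).op).hom * (c.trans q f₁ f₂ hf₁ hf₂).map (G.map g.op).hom =
      (c.trans q f₁ f₂ hf₁ hf₂).map (G.map g.op).hom := by
    have h0 : c.idem.map (G.map (g ≫ f₂).op).hom = (c.idem.map (G.map f₂.op).hom).map (G.map g.op).hom :=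
      Matrix.ext fun i j => hG _
    rw [h0, ← c.trans_self q f₂ hf₂, ← Matrix.map_mul, c.trans_comp]
  refine Eq.trans ?_ hleft
  refine Matrix.ext fun b a => ?_
  have key : (homAt D q' (g ≫ f₁) (g ≫ f₂) h₁' h₂').hom (ext1 (G.map (g ≫ f₁).op) (modOf D) (c.gen a)) =
      ∑ j, (G.map g.op).hom (c.trans q f₁ f₂ hf₁ hf₂ j a) • ext1 (G.map (g ≫ f₂).op) (modOf D) (c.gen j) := by
    apply (compIso G _ _ _ c₂ (modOf D)).toLinearEquiv.injective
    show (compIso G _ _ _ c₂ (modOf D)).hom.hom _ = (compIso G _ _ _ c₂ (modOf D)).hom.hom _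
    rw [homAt_pull D q f₁ f₂ hf₁ hf₂ g q' hq h₁' h₂' c₂, c.homAt_gen, ext1_sum]
    refine Eq.trans ?_ (map_sum (compIso G _ _ _ c₂ (modOf D)).hom.hom _ _).symm
    refine Finset.sum_congr rfl fun j _ => ?_
    refine Eq.trans ?_ (LinearMap.map_smul (compIso G _ _ _ c₂ (modOf D)).hom.hom _ _).symm
    rw [ext1_smul]
    congr 1
    exact (compIso_ext1 G _ _ _ c₂ (modOf D) (c.gen j)).symm
  show c.at (g ≫ f₂) ((homAt D q' (g ≫ f₁) (g ≫ f₂) h₁' h₂').hom _) b = _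
  rw [key, map_sum, Finset.sum_apply, Matrix.mul_apply]
  refine Finset.sum_congr rfl fun j _ => ?_
  rw [map_smul, c.at_ext1]
  exact mul_comm _ _

theorem Coords.comm_of_trans {Y : C} {l : ℕ} (U : Matrix (Fin k) (Fin l) (G.obj (op X))) (q : Y ⟶ S)
    (f₁ f₂ : Y ⟶ X) (hf₁ : f₁ ≫ f = q) (hf₂ : f₂ ≫ f = q)
    (hU : c.trans q f₁ f₂ hf₁ hf₂ * U.map (G.map f₁.op).hom = U.map (G.map f₂.op).hom)
    (v : Fin l → G.obj (op X)) (hv : (G.map f₁.op).hom ∘ v = (G.map f₂.op).hom ∘ v) :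
    (homAt D q f₁ f₂ hf₁ hf₂).hom (ext1 (G.map f₁.op) (modOf D) (∑ a, (U *ᵥ v) a • c.gen a)) =
      ext1 (G.map f₂.op) (modOf D) (∑ a, (U *ᵥ v) a • c.gen a) := by
  have h1 : (G.map f₁.op).hom ∘ (U *ᵥ v) = U.map (G.map f₁.op).hom *ᵥ ((G.map f₁.op).hom ∘ v) :=
    funext fun a => RingHom.map_mulVec (G.map f₁.op).hom U v a
  rw [c.homAt_vec, h1, Matrix.mulVec_mulVec, hU, hv, ext1_sum]
  refine Finset.sum_congr rfl fun a _ => ?_
  rw [ext1_smul]
  congr 1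
  exact (RingHom.map_mulVec (G.map f₂.op).hom U v a).symm

theorem Coords.reconstruct {l : ℕ} (P : Matrix (Fin l) (Fin l) (G.obj (op S)))
    (U : Matrix (Fin k) (Fin l) (G.obj (op X))) (V : Matrix (Fin l) (Fin k) (G.obj (op X)))
    (hP : P * P = P) (hUV : U * V = c.idem) (hVU : V * U = P.map (G.map f.op).hom)
    (hU : ∀ {Y : C} (q : Y ⟶ S) (f₁ f₂ : Y ⟶ X) (hf₁ : f₁ ≫ f = q) (hf₂ : f₂ ≫ f = q),
      c.trans q f₁ f₂ hf₁ hf₂ * U.map (G.map f₁.op).hom = U.map (G.map f₂.op).hom) :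
    ∃ M : ModuleCat.{u} (G.obj (op S)), Module.Finite (G.obj (op S)) M ∧
      Module.Projective (G.obj (op S)) M ∧
      Nonempty (((G.toPseudofunctor.comp CommRingCat.moduleCatExtendScalarsPseudofunctor.{u}).toDescentData
        (fun _ : PUnit.{u + 1} => f)).obj M ≅ D) := by
  have heU : c.idem * U = U := by
    have h := hU f (𝟙 X) (𝟙 X) (Category.id_comp f) (Category.id_comp f)
    rw [c.trans_self] at h
    simpa using h
  have hUP : U * P.map (G.map f.op).hom = U := by rw [← hVU, ← Matrix.mul_assoc, hUV, heU]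
  let L : Submodule (G.obj (op S)) (Fin l → G.obj (op S)) := LinearMap.range P.mulVecLin
  have hfix : ∀ m : L, P *ᵥ (m : Fin l → G.obj (op S)) = m := by
    rintro ⟨_, v, rfl⟩
    simp [Matrix.mulVec_mulVec, hP]
  refine ⟨ModuleCat.of _ L, Module.Finite.range P.mulVecLin,
    Module.Projective.of_split L.subtype (LinearMap.rangeRestrict P.mulVecLin)
      (LinearMap.ext fun m => Subtype.ext (hfix m)), ?_⟩
  let φ : G.obj (op S) ⟶ G.obj (op X) := G.map f.op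
  let F : ModuleCat.of (G.obj (op S)) L → modOf D := fun m =>
    ∑ a, (U *ᵥ (φ.hom ∘ Subtype.val m)) a • c.gen a
  obtain ⟨Φ, hΦ⟩ := exists_extend φ F
    (fun x y => by
      simp only [F]
      rw [← Finset.sum_add_distrib]
      refine Finset.sum_congr rfl fun a _ => ?_
      rw [← add_smul, ← Pi.add_apply, ← Matrix.mulVec_add]
      congr 3
      funext j
      exact map_add φ.hom _ _)
    (fun r m => by
      simp only [F]
      rw [Finset.smul_sum]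
      refine Finset.sum_congr rfl fun a _ => ?_
      rw [smul_smul]
      congr 1
      have hh : (φ.hom ∘ Subtype.val (r • m) : Fin l → G.obj (op X)) = φ.hom r • (φ.hom ∘ Subtype.val m) :=
        funext fun j => map_mul φ.hom _ _
      rw [hh, Matrix.mulVec_smul]
      rfl)
  let col : Fin l → ModuleCat.of (G.obj (op S)) L := fun j => ⟨P *ᵥ Pi.single j 1, Pi.single j 1, rfl⟩
  let Ψ : modOf D ⟶ (ModuleCat.extendScalars.{u, u, u} φ.hom).obj (ModuleCat.of _ L) :=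
    sumSMul (V.mulVecLin ∘ₗ c.coord) fun j => ext1 φ (ModuleCat.of _ L) (col j)
  have hΨ : ∀ y, Ψ.hom y = ∑ j, (V *ᵥ c.coord y) j • ext1 φ (ModuleCat.of _ L) (col j) := fun y =>
    sumSMul_apply _ _ y
  have h₁ : Φ ≫ Ψ = 𝟙 _ := by
    refine ext1_hom_ext φ fun m => ?_
    rw [ModuleCat.hom_comp, LinearMap.comp_apply, hΦ, hΨ, c.coord_sum_gen, Matrix.mulVec_mulVec,
      Matrix.mulVec_mulVec, Matrix.mul_assoc, heU, hVU, ModuleCat.hom_id, LinearMap.id_apply]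
    have hm : (P.map φ.hom) *ᵥ (φ.hom ∘ Subtype.val m) = φ.hom ∘ Subtype.val m := by
      funext j
      rw [← RingHom.map_mulVec, hfix m]
      rfl
    rw [hm]
    have hsum : m = ∑ j, (Subtype.val m) j • col j := Subtype.ext (by
      conv_lhs => rw [← hfix m, ← Finset.univ_sum_single (Subtype.val m)]
      refine Eq.trans ?_ (map_sum L.subtype _ _).symm
      rw [Matrix.mulVec_sum]
      refine Finset.sum_congr rfl fun j _ => ?_
      refine Eq.trans ?_ (map_smul L.subtype _ _).symm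
      show _ = _ • (P *ᵥ Pi.single j 1)
      rw [← Matrix.mulVec_smul, ← Pi.single_smul, smul_eq_mul, mul_one])
    conv_rhs => rw [hsum, ext1_sum]
    exact Finset.sum_congr rfl fun j _ => (ext1_smul φ _ _).symm
  have h₂ : Ψ ≫ Φ = 𝟙 _ := by
    refine ModuleCat.hom_ext (LinearMap.ext fun y => ?_)
    rw [ModuleCat.hom_comp, LinearMap.comp_apply, hΨ, map_sum, ModuleCat.hom_id, LinearMap.id_apply]
    simp only [map_smul, hΦ, F, Finset.smul_sum, smul_smul]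
    rw [Finset.sum_comm]
    have hk : c.idem *ᵥ c.coord y = c.coord y := by rw [← c.coord_sum_gen, c.sum_coord]
    conv_rhs => rw [← c.sum_coord y, ← hk, ← hUV, ← Matrix.mulVec_mulVec]
    refine Finset.sum_congr rfl fun a _ => ?_
    rw [← Finset.sum_smul]
    congr 1
    refine Finset.sum_congr rfl fun j _ => ?_
    have h4 : (φ.hom ∘ Subtype.val (col j)) = (P.map φ.hom).col j := by
      funext i
      show φ.hom ((P *ᵥ Pi.single j 1) i) = _
      rw [Matrix.mulVec_single_one]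
      rfl
    rw [h4, mul_comm]
    congr 1
    exact congrFun (congrFun hUP a) j
  refine ⟨Pseudofunctor.DescentData.isoMk (fun _ => ⟨Φ, Ψ, h₁, h₂⟩) ?_⟩
  intro Y q i₁ i₂ f₁ f₂ hf₁ hf₂
  have c₁ : f.op.toLoc ≫ f₁.op.toLoc = q.op.toLoc := by rw [← hf₁]; rfl
  have c₂ : f.op.toLoc ≫ f₂.op.toLoc = q.op.toLoc := by rw [← hf₂]; rfl
  show (ModuleCat.extendScalars.{u, u, u} (G.map f₁.op).hom).map Φ ≫ homAt D q f₁ f₂ hf₁ hf₂ =
    ((compIso G _ _ _ c₁ (ModuleCat.of _ L)).inv ≫ (compIso G _ _ _ c₂ (ModuleCat.of _ L)).hom) ≫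
      (ModuleCat.extendScalars.{u, u, u} (G.map f₂.op).hom).map Φ
  refine ext1_hom_ext₂ φ (G.map f₁.op) fun m => ?_
  have hv : (G.map f₁.op).hom ∘ (φ.hom ∘ Subtype.val m) = (G.map f₂.op).hom ∘ (φ.hom ∘ Subtype.val m) := by
    funext j
    show (G.map f.op ≫ G.map f₁.op).hom _ = (G.map f.op ≫ G.map f₂.op).hom _
    rw [← G.map_comp, ← G.map_comp, ← op_comp, ← op_comp, hf₁, hf₂]
  have key := c.comm_of_trans U q f₁ f₂ hf₁ hf₂ (hU q f₁ f₂ hf₁ hf₂) _ hv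
  have a1 : ((ModuleCat.extendScalars.{u, u, u} (G.map f₁.op).hom).map Φ).hom
      (ext1 (G.map f₁.op) _ (ext1 φ (ModuleCat.of _ L) m)) = ext1 (G.map f₁.op) (modOf D) (F m) :=
    (map_ext1 (G.map f₁.op) Φ _).trans (congrArg (ext1 (G.map f₁.op) (modOf D)) (hΦ m))
  have a2 : ((ModuleCat.extendScalars.{u, u, u} (G.map f₂.op).hom).map Φ).hom
      (ext1 (G.map f₂.op) _ (ext1 φ (ModuleCat.of _ L) m)) = ext1 (G.map f₂.op) (modOf D) (F m) :=
    (map_ext1 (G.map f₂.op) Φ _).trans (congrArg (ext1 (G.map f₂.op) (modOf D)) (hΦ m))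
  have a3 : ((compIso G _ _ _ c₁ (ModuleCat.of _ L)).inv ≫ (compIso G _ _ _ c₂ (ModuleCat.of _ L)).hom).hom
      (ext1 (G.map f₁.op) _ (ext1 φ (ModuleCat.of _ L) m)) =
      ext1 (G.map f₂.op) _ (ext1 φ (ModuleCat.of _ L) m) :=
    (congrArg (compIso G _ _ _ c₂ (ModuleCat.of _ L)).hom.hom
      ((congrArg (compIso G _ _ _ c₁ (ModuleCat.of _ L)).inv.hom
        (compIso_ext1 G _ _ _ c₁ (ModuleCat.of _ L) m).symm).trans
          ((compIso G _ _ _ c₁ (ModuleCat.of _ L)).hom_inv_id_apply _))).trans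
      (compIso_ext1 G _ _ _ c₂ (ModuleCat.of _ L) m)
  exact ((congrArg (homAt D q f₁ f₂ hf₁ hf₂).hom a1).trans key).trans
    (a2.symm.trans (congrArg ((ModuleCat.extendScalars.{u, u, u} (G.map f₂.op).hom).map Φ).hom a3.symm))

end Groth.Agent.WittDesc88
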