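import Groth.Agent.WittDesc88.Prestack

/-!
Elements `1 ⊗ m` of an extension of scalars, with an opaque head symbol.
-/

set_option autoImplicit false

universe u v w

open CategoryTheory Opposite

namespace Groth.Agent.WittDesc88

variable {A B : CommRingCat.{u}} (φ : A ⟶ B) {M : ModuleCat.{u} A} {N : ModuleCat.{u} B}

/-- `1 ⊗ m`. -/
noncomputable def ext1 (M : ModuleCat.{u} A) (m : M) : (ModuleCat.extendScalars.{u, u, u} φ.hom).obj M :=
  oneT φ M m

theorem ext1_add (m m' : M) : ext1 φ M (m + m') = ext1 φ M m + ext1 φ M m' := by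
  letI := φ.hom.toAlgebra
  exact TensorProduct.tmul_add _ _ _

theorem ext1_smul (a : A) (m : M) : ext1 φ M (a • m) = φ.hom a • ext1 φ M m := by
  refine Eq.trans ?_ (ModuleCat.ExtendScalars.smul_tmul φ.hom (φ.hom a) (1 : B) m).symm
  letI := φ.hom.toAlgebra
  exact (TensorProduct.smul_tmul (R := A) a (1 : B) m).symm

theorem ext1_sum {ι : Type*} (s : Finset ι) (m : ι → M) :
    ext1 φ M (∑ i ∈ s, m i) = ∑ i ∈ s, ext1 φ M (m i) :=
  map_sum (AddMonoidHom.mk' (ext1 φ M) (ext1_add φ)) m s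

theorem ext1_hom_ext {α β : (ModuleCat.extendScalars.{u, u, u} φ.hom).obj M ⟶ N}
    (h : ∀ m, α.hom (ext1 φ M m) = β.hom (ext1 φ M m)) : α = β :=
  ModuleCat.ExtendScalars.hom_ext h

theorem map_ext1 {M' : ModuleCat.{u} A} (α : M ⟶ M') (m : M) :
    ((ModuleCat.extendScalars.{u, u, u} φ.hom).map α).hom (ext1 φ M m) = ext1 φ M' (α.hom m) :=
  ModuleCat.ExtendScalars.map_tmul φ.hom α 1 m

theorem exists_extend (F : M → N) (hadd : ∀ x y, F (x + y) = F x + F y)
    (hsmul : ∀ (a : A) (m : M), F (a • m) = φ.hom a • F m) :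
    ∃ α : (ModuleCat.extendScalars.{u, u, u} φ.hom).obj M ⟶ N, ∀ m, α.hom (ext1 φ M m) = F m := by
  obtain ⟨α, hα⟩ := ((ModuleCat.extendRestrictScalarsAdj φ.hom).homEquiv M N).surjective
    (@ModuleCat.ofHom A _ M ((ModuleCat.restrictScalars φ.hom).obj N) _ _ _
      ((ModuleCat.restrictScalars φ.hom).obj N).isModule
      { toFun := fun m => F m, map_add' := hadd, map_smul' := hsmul })
  refine ⟨α, fun m => ?_⟩
  exact (ModuleCat.extendRestrictScalarsAdj_homEquiv_apply α m).symm.trans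
    (ConcreteCategory.congr_hom hα m)

theorem ext1_hom_ext₂ {C : CommRingCat.{u}} (ψ : B ⟶ C) {K : ModuleCat.{u} C}
    {α β : (ModuleCat.extendScalars.{u, u, u} ψ.hom).obj ((ModuleCat.extendScalars.{u, u, u} φ.hom).obj M) ⟶ K}
    (h : ∀ m, α.hom (ext1 ψ _ (ext1 φ M m)) = β.hom (ext1 ψ _ (ext1 φ M m))) : α = β := by
  apply ((ModuleCat.extendRestrictScalarsAdj ψ.hom).homEquiv _ _).injective
  exact ext1_hom_ext φ fun m => h m

/-- `m ↦ ∑ a, coord m a • x a`. -/
noncomputable def sumSMul {R : CommRingCat.{u}} {M N : ModuleCat.{u} R} {k : ℕ} (c : M →ₗ[R] (Fin k → R))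
    (x : Fin k → N) : M ⟶ N :=
  ModuleCat.ofHom (∑ a, (LinearMap.proj a ∘ₗ c).smulRight (x a))

theorem sumSMul_apply {R : CommRingCat.{u}} {M N : ModuleCat.{u} R} {k : ℕ} (c : M →ₗ[R] (Fin k → R))
    (x : Fin k → N) (m : M) : (sumSMul c x).hom m = ∑ a, c m a • x a := by
  simp [sumSMul]

theorem compIso_ext1 {D : Type w} [Category.{v} D] (G : D ⥤ CommRingCat.{u}) {a b c : LocallyDiscrete D}
    (f : a ⟶ b) (g : b ⟶ c) (k : a ⟶ c) (h : f ≫ g = k) (M : ModuleCat.{u} (G.obj a.as)) (m : M) :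
    (compIso G f g k h M).hom.hom (ext1 (G.map k.as) M m) = ext1 (G.map g.as) _ (ext1 (G.map f.as) M m) :=
  compIso_oneT G f g k h M m

end Groth.Agent.WittDesc88
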