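import Mathlib.Algebra.Category.ModuleCat.Pseudofunctor
import Mathlib.CategoryTheory.Sites.Descent.DescentData

/-!
Extension of scalars pseudofunctors composed with a functor to commutative rings, on pure tensors.
-/

universe u v w

open CategoryTheory
open scoped ChangeOfRings

namespace Groth.Agent.WittDesc88

/-- `1 ⊗ m`. -/
noncomputable abbrev oneT {A B : CommRingCat.{u}} (φ : A ⟶ B) (M : ModuleCat.{u} A) (m : M) :
    (ModuleCat.extendScalars.{u, u, u} φ.hom).obj M :=
  ((1 : B) ⊗ₜ[A,φ.hom] m :)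

/-- The component of an equality of extension functors. -/
noncomputable abbrev eqHom {A B : CommRingCat.{u}} {k k' : A ⟶ B}
    (H : (ModuleCat.extendScalars.{u, u, u} k.hom).toCatHom = (ModuleCat.extendScalars.{u, u, u} k'.hom).toCatHom)
    (M : ModuleCat.{u} A) :
    (ModuleCat.extendScalars.{u, u, u} k.hom).obj M ⟶ (ModuleCat.extendScalars.{u, u, u} k'.hom).obj M :=
  (eqToHom H).toNatTrans.app M

theorem eqHom_oneT {A B : CommRingCat.{u}} {k k' : A ⟶ B} (h : k = k')
    (H : (ModuleCat.extendScalars.{u, u, u} k.hom).toCatHom = (ModuleCat.extendScalars.{u, u, u} k'.hom).toCatHom)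
    (M : ModuleCat.{u} A) (m : M) : eqHom H M (oneT k M m) = oneT k' M m := by
  subst h
  rfl

variable {D : Type w} [Category.{v} D] (G : D ⥤ CommRingCat.{u})

/-- The component of `mapComp'`. -/
noncomputable abbrev compHom {a b c : LocallyDiscrete D} (f : a ⟶ b) (g : b ⟶ c) (k : a ⟶ c)
    (h : f ≫ g = k) (M : ModuleCat.{u} (G.obj a.as)) :
    (ModuleCat.extendScalars.{u, u, u} (G.map k.as).hom).obj M ⟶
      (ModuleCat.extendScalars.{u, u, u} (G.map g.as).hom).obj
        ((ModuleCat.extendScalars.{u, u, u} (G.map f.as).hom).obj M) :=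
  ((G.toPseudofunctor.comp CommRingCat.moduleCatExtendScalarsPseudofunctor.{u}).mapComp'
    f g k h).hom.toNatTrans.app M

theorem compHom_oneT {a b c : LocallyDiscrete D} (f : a ⟶ b) (g : b ⟶ c) (k : a ⟶ c)
    (h : f ≫ g = k) (M : ModuleCat.{u} (G.obj a.as)) (m : M) :
    compHom G f g k h M (oneT (G.map k.as) M m) = oneT (G.map g.as) _ (oneT (G.map f.as) M m) := by
  subst h
  have H : (ModuleCat.extendScalars.{u, u, u} (G.map (f ≫ g).as).hom).toCatHom =
      (ModuleCat.extendScalars.{u, u, u} (G.map f.as ≫ G.map g.as).hom).toCatHom := by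
    rw [show (f ≫ g).as = f.as ≫ g.as from rfl, G.map_comp]
  have e : compHom G f g (f ≫ g) rfl M = eqHom H M ≫
      (ModuleCat.extendScalarsComp (G.map f.as).hom (G.map g.as).hom).hom.app M := by
    dsimp only [compHom]
    rw [Pseudofunctor.mapComp'_eq_mapComp]
    simp [Pseudofunctor.comp, Functor.toPseudofunctor, pseudofunctorOfIsLocallyDiscrete,
      PrelaxFunctor.map₂_eqToHom]
    rfl
  rw [e, ModuleCat.comp_apply, eqHom_oneT (G.map_comp f.as g.as) H M m]
  exact ModuleCat.extendScalarsComp_hom_app_one_tmul (G.map f.as).hom (G.map g.as).hom M m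

end Groth.Agent.WittDesc88
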