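import Groth.Agent.WittDesc88.Basic
import Groth.Agent.WittDesc88.PF

/-!
Full faithfulness criterion for descent along an equalizer of rings, for flat targets.
-/

universe u

open CategoryTheory
open scoped TensorProduct ChangeOfRings

namespace Groth.Agent.WittDesc88

variable {A B C : CommRingCat.{u}} (g : A ⟶ B) (h : B ⟶ C) (k : A ⟶ C)

/-- `h` as a map of `A`-modules. -/
noncomputable def resHom (hk : g ≫ h = k) :
    (ModuleCat.restrictScalars g.hom).obj (ModuleCat.of B B) →ₗ[A]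
      (ModuleCat.restrictScalars k.hom).obj (ModuleCat.of C C) where
  toFun b := (h.hom (b : B) : C)
  map_add' x y := h.hom.map_add x y
  map_smul' a x := by
    subst hk
    exact h.hom.map_mul (g.hom a) x

/-- The base change map on tensors. -/
noncomputable abbrev baseMap (hk : g ≫ h = k) (M : ModuleCat.{u} A) :
    ((ModuleCat.restrictScalars g.hom).obj (ModuleCat.of B B)) ⊗[A] M →ₗ[A]
      ((ModuleCat.restrictScalars k.hom).obj (ModuleCat.of C C)) ⊗[A] M :=
  (resHom g h k hk).rTensor M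

theorem baseMap_eq (hk : g ≫ h = k) (M : ModuleCat.{u} A)
    (e : (ModuleCat.extendScalars.{u, u, u} k.hom).obj M ≅
      (ModuleCat.extendScalars.{u, u, u} h.hom).obj ((ModuleCat.extendScalars.{u, u, u} g.hom).obj M))
    (he : ∀ m, e.hom (oneT k M m) = oneT h _ (oneT g M m))
    (z : (ModuleCat.extendScalars.{u, u, u} g.hom).obj M) :
    baseMap g h k hk M z = e.inv (oneT h _ z) := by
  refine ((fun w => ?_) : ∀ w : ((ModuleCat.restrictScalars g.hom).obj (ModuleCat.of B B)) ⊗[A] M,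
    baseMap g h k hk M w = e.inv (oneT h _ w)) z
  induction w using TensorProduct.induction_on with
  | zero =>
    rw [map_zero]
    exact ((congrArg e.inv (TensorProduct.tmul_zero _ _)).trans (map_zero e.inv.hom)).symm
  | add x y hx hy =>
    rw [map_add, hx, hy]
    exact ((congrArg e.inv (TensorProduct.tmul_add _ _ _)).trans (map_add e.inv.hom _ _)).symm
  | tmul b m => exact this b m
where
  this (b : B) (m : M) : baseMap g h k hk M (b ⊗ₜ[A,g.hom] m :) =
      e.inv (oneT h _ (b ⊗ₜ[A,g.hom] m :)) := by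
    have h1 : oneT h ((ModuleCat.extendScalars.{u, u, u} g.hom).obj M) (b ⊗ₜ[A,g.hom] m :) =
        h.hom b • oneT h _ (oneT g M m) := by
      have hb : ((b ⊗ₜ[A,g.hom] m :) : (ModuleCat.extendScalars.{u, u, u} g.hom).obj M) = b • oneT g M m :=
        (congrArg (fun t : B => ((t ⊗ₜ[A,g.hom] m :) : (ModuleCat.extendScalars.{u, u, u} g.hom).obj M))
          (mul_one b).symm).trans (ModuleCat.ExtendScalars.smul_tmul g.hom b (1 : B) m).symm
      rw [hb]
      letI := h.hom.toAlgebra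
      refine Eq.trans ?_ (ModuleCat.ExtendScalars.smul_tmul h.hom (h.hom b) (1 : C) _).symm
      exact (TensorProduct.smul_tmul (R := B) b (1 : C) (oneT g M m)).symm
    refine Eq.trans ?_ (congrArg e.inv h1).symm
    rw [map_smul, ← he, e.hom_inv_id_apply]
    refine Eq.trans ?_ (ModuleCat.ExtendScalars.smul_tmul k.hom (h.hom b) (1 : C) m).symm
    exact congrArg (fun t : C => ((t ⊗ₜ[A,k.hom] m :) : (ModuleCat.extendScalars.{u, u, u} k.hom).obj M))
      (mul_one (h.hom b)).symm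

theorem bijective_of_equalizer {A B C : CommRingCat.{u}} (g : A ⟶ B) (h₁ h₂ : B ⟶ C) (k : A ⟶ C)
    (hk₁ : g ≫ h₁ = k) (hk₂ : g ≫ h₂ = k) (hg : Function.Injective g.hom)
    (heq : ∀ b, h₁.hom b = h₂.hom b → b ∈ Set.range g.hom) (M N : ModuleCat.{u} A) (hflat : Module.Flat A N)
    (eM₁ : (ModuleCat.extendScalars.{u, u, u} k.hom).obj M ≅
      (ModuleCat.extendScalars.{u, u, u} h₁.hom).obj ((ModuleCat.extendScalars.{u, u, u} g.hom).obj M))
    (eM₂ : (ModuleCat.extendScalars.{u, u, u} k.hom).obj M ≅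
      (ModuleCat.extendScalars.{u, u, u} h₂.hom).obj ((ModuleCat.extendScalars.{u, u, u} g.hom).obj M))
    (eN₁ : (ModuleCat.extendScalars.{u, u, u} k.hom).obj N ≅
      (ModuleCat.extendScalars.{u, u, u} h₁.hom).obj ((ModuleCat.extendScalars.{u, u, u} g.hom).obj N))
    (eN₂ : (ModuleCat.extendScalars.{u, u, u} k.hom).obj N ≅
      (ModuleCat.extendScalars.{u, u, u} h₂.hom).obj ((ModuleCat.extendScalars.{u, u, u} g.hom).obj N))
    (hM₁ : ∀ m, eM₁.hom (oneT k M m) = oneT h₁ _ (oneT g M m))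
    (hM₂ : ∀ m, eM₂.hom (oneT k M m) = oneT h₂ _ (oneT g M m))
    (hN₁ : ∀ m, eN₁.hom (oneT k N m) = oneT h₁ _ (oneT g N m))
    (hN₂ : ∀ m, eN₂.hom (oneT k N m) = oneT h₂ _ (oneT g N m)) :
    Function.Injective (fun φ : M ⟶ N => (ModuleCat.extendScalars.{u, u, u} g.hom).map φ) ∧
      ∀ ψ : (ModuleCat.extendScalars.{u, u, u} g.hom).obj M ⟶ (ModuleCat.extendScalars.{u, u, u} g.hom).obj N,
        (ModuleCat.extendScalars.{u, u, u} h₁.hom).map ψ ≫ eN₁.inv ≫ eN₂.hom =
            (eM₁.inv ≫ eM₂.hom) ≫ (ModuleCat.extendScalars.{u, u, u} h₂.hom).map ψ →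
          ∃ φ : M ⟶ N, (ModuleCat.extendScalars.{u, u, u} g.hom).map φ = ψ := by
  let i : A →ₗ[A] (ModuleCat.restrictScalars g.hom).obj (ModuleCat.of B B) :=
    { toFun := fun a => (g.hom a : B)
      map_add' := g.hom.map_add
      map_smul' := fun a x => g.hom.map_mul a x }
  have hi : i 1 = (1 : B) := g.hom.map_one
  have hr : ∀ b : (ModuleCat.restrictScalars g.hom).obj (ModuleCat.of B B),
      resHom g h₁ k hk₁ b = resHom g h₂ k hk₂ b ↔ b ∈ Set.range i := by
    intro b
    constructor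
    · intro hb
      obtain ⟨a, ha⟩ := heq _ hb
      exact ⟨a, ha⟩
    · rintro ⟨a, rfl⟩
      show (g ≫ h₁).hom a = (g ≫ h₂).hom a
      rw [hk₁, hk₂]
  obtain ⟨hinj, hrange⟩ := rTensor_equalizer N i _ _ (fun _ _ e => hg e) hr
  rw [hi] at hinj hrange
  refine ⟨fun φ φ' hφ => ModuleCat.hom_ext (LinearMap.ext fun m => hinj ?_), fun ψ hψ => ?_⟩
  · exact (ModuleCat.ExtendScalars.map_tmul g.hom φ 1 m).symm.trans
      ((ConcreteCategory.congr_hom hφ (oneT g M m)).trans (ModuleCat.ExtendScalars.map_tmul g.hom φ' 1 m))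
  have key : ∀ m, ∃ n, oneT g N n = ψ (oneT g M m) := by
    intro m
    refine (hrange _).1 ?_
    show baseMap g h₁ k hk₁ N (ψ (oneT g M m)) = baseMap g h₂ k hk₂ N (ψ (oneT g M m))
    rw [baseMap_eq g h₁ k hk₁ N eN₁ hN₁, baseMap_eq g h₂ k hk₂ N eN₂ hN₂]
    have hc := ConcreteCategory.congr_hom hψ (oneT h₁ _ (oneT g M m))
    simp only [ModuleCat.comp_apply] at hc
    have hinv : eM₁.inv (oneT h₁ _ (oneT g M m)) = oneT k M m := by
      rw [← hM₁, eM₁.hom_inv_id_apply]
    rw [hinv, hM₂] at hc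
    erw [ModuleCat.ExtendScalars.map_tmul, ModuleCat.ExtendScalars.map_tmul] at hc
    exact (eN₂.hom_inv_id_apply _).symm.trans (congrArg eN₂.inv hc)
  choose φ hφ using key
  refine ⟨ModuleCat.ofHom
    { toFun := φ
      map_add' := fun x y => hinj ?_
      map_smul' := fun a x => hinj ?_ }, ?_⟩
  · show oneT g N (φ (x + y)) = oneT g N (φ x + φ y)
    have ha : ∀ (P : ModuleCat.{u} A) (p q : P), oneT g P (p + q) = oneT g P p + oneT g P q := fun P p q => by
      letI := g.hom.toAlgebra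
      exact TensorProduct.tmul_add _ _ _
    rw [hφ, ha, ha, map_add, hφ, hφ]
  · show oneT g N (φ (a • x)) = oneT g N (a • φ x)
    rw [hφ]
    have h1 : ∀ (P : ModuleCat.{u} A) (p : P), oneT g P (a • p) = g.hom a • oneT g P p := fun P p => by
      refine Eq.trans ?_ (ModuleCat.ExtendScalars.smul_tmul g.hom (g.hom a) (1 : B) p).symm
      letI := g.hom.toAlgebra
      exact (TensorProduct.smul_tmul (R := A) a (1 : B) p).symm
    rw [h1, h1, map_smul, hφ]
  · refine ModuleCat.ExtendScalars.hom_ext (f := g.hom) fun m => ?_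
    erw [ModuleCat.ExtendScalars.map_tmul]
    exact hφ m

end Groth.Agent.WittDesc88
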