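import Groth.Prelude.Def_WittGrp
import Mathlib.RingTheory.WittVector.Teichmuller
import Mathlib.Data.Matrix.Mul
import Mathlib.LinearAlgebra.Matrix.Defs

/-!
The kernel of `W_{n+1}(T) → W_n(T)` as a module over `W_{n+1}(T)`.
-/

universe u v

namespace Groth.Agent.WittDesc88

open WittVector (ghostComponent)

variable (p : ℕ) [Fact p.Prime] (n : ℕ) {T : Type u} [CommRing T] {T' : Type v} [CommRing T']

theorem ghostComponent_ker (x : WittVector p T) (hx : WittVector.truncate (n + 1) x = 0) :
    ghostComponent n x = 0 := by
  have h : ∀ i < n + 1, x.coeff i = 0 := fun i hi => by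
    have := congrArg (fun y => TruncatedWittVector.coeff (⟨i, hi⟩ : Fin (n + 1)) y) hx
    simpa using this
  rw [WittVector.ghostComponent_apply, wittPolynomial_eq_sum_C_mul_X_pow, map_sum]
  refine Finset.sum_eq_zero fun i hi => ?_
  have hp : 0 < p := (Fact.out : p.Prime).pos
  simp [h i (Finset.mem_range.1 hi), zero_pow (pow_pos hp (n - i)).ne']

/-- The last ghost component on `W_{n+1}`. -/
noncomputable def ghostTop : TruncatedWittVector p (n + 1) T →+* T :=
  (WittVector.truncate (n + 1)).liftOfRightInverse TruncatedWittVector.out TruncatedWittVector.truncateFun_out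
    ⟨ghostComponent n, fun x hx => ghostComponent_ker p n x hx⟩

theorem ghostTop_truncate (x : WittVector p T) :
    ghostTop p n (WittVector.truncate (n + 1) x) = ghostComponent n x :=
  (WittVector.truncate (n + 1)).liftOfRightInverse_comp_apply _ _ _ x

theorem ghostTop_truncMap (f : T →+* T') (w : TruncatedWittVector p (n + 1) T) :
    ghostTop p n (WittGrp.truncMap p (n + 1) f w) = f (ghostTop p n w) := by
  obtain ⟨x, rfl⟩ := WittVector.truncate_surjective p (n + 1) T w
  rw [WittGrp.truncMap_truncate, ghostTop_truncate, ghostTop_truncate, WittVector.ghostComponent_apply,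
    WittVector.ghostComponent_apply, wittPolynomial_eq_sum_C_mul_X_pow]
  simp

/-- `a ↦ V^n [a]`. -/
noncomputable def kerIncl : T →+ TruncatedWittVector p (n + 1) T where
  toFun a := TruncatedWittVector.mk p fun i => if (i : ℕ) = n then a else 0
  map_zero' := TruncatedWittVector.ext fun i => by simp
  map_add' a b := by
    have key : ∀ z : WittVector p T,
        (TruncatedWittVector.mk p fun i : Fin (n + 1) => if (i : ℕ) = n then z.coeff 0 else 0) =
          WittVector.truncate (n + 1) (WittVector.verschiebung^[n] z) := fun z =>
      TruncatedWittVector.ext fun i => by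
        simp only [TruncatedWittVector.coeff_mk, WittVector.coeff_truncate]
        split_ifs with h
        · rw [h]
          simpa using (WittVector.iterate_verschiebung_coeff z n 0).symm
        · rw [WittVector.iterate_verschiebung_coeff_eq_zero z (by omega)]
    have h0 : (WittVector.teichmuller p a + WittVector.teichmuller p b).coeff 0 = a + b := by
      simp [WittVector.add_coeff_zero]
    have ha := key (WittVector.teichmuller p a)
    have hb := key (WittVector.teichmuller p b)
    have hab := key (WittVector.teichmuller p a + WittVector.teichmuller p b)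
    rw [WittVector.teichmuller_coeff_zero] at ha hb
    rw [h0, iterate_map_add, map_add, ← ha, ← hb] at hab
    exact hab

theorem coeff_kerIncl (a : T) (i : Fin (n + 1)) :
    (kerIncl p n a).coeff i = if (i : ℕ) = n then a else 0 :=
  TruncatedWittVector.coeff_mk _ _

theorem kerIncl_coeff_zero_eq (z : WittVector p T) :
    kerIncl p n (z.coeff 0) = WittVector.truncate (n + 1) (WittVector.verschiebung^[n] z) := by
  refine TruncatedWittVector.ext fun i => ?_
  rw [coeff_kerIncl, WittVector.coeff_truncate]
  split_ifs with h
  · rw [h]
    simpa using (WittVector.iterate_verschiebung_coeff z n 0).symm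
  · rw [WittVector.iterate_verschiebung_coeff_eq_zero z (by omega)]

theorem kerIncl_injective : Function.Injective (kerIncl p n (T := T)) := fun a b h => by
  have := congrArg (fun y => TruncatedWittVector.coeff (Fin.last n) y) h
  simpa [coeff_kerIncl] using this

theorem truncMap_kerIncl (f : T →+* T') (a : T) :
    WittGrp.truncMap p (n + 1) f (kerIncl p n a) = kerIncl p n (f a) :=
  TruncatedWittVector.ext fun i => by
    simp only [WittGrp.coeff_truncMap, coeff_kerIncl]
    split_ifs <;> simp

theorem ghostComponent_iterate_frobenius (x : WittVector p T) (k i : ℕ) :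
    ghostComponent i (WittVector.frobenius^[k] x) = ghostComponent (i + k) x := by
  induction k generalizing x with
  | zero => simp
  | succ k ih => rw [Function.iterate_succ_apply, ih, WittVector.ghostComponent_frobenius, add_assoc]

theorem ghostComponent_zero' (z : WittVector p T) : ghostComponent 0 z = z.coeff 0 := by
  rw [WittVector.ghostComponent_apply, wittPolynomial_zero, MvPolynomial.aeval_X]

theorem mul_kerIncl (w : TruncatedWittVector p (n + 1) T) (a : T) :
    w * kerIncl p n a = kerIncl p n (ghostTop p n w * a) := by
  obtain ⟨x, rfl⟩ := WittVector.truncate_surjective p (n + 1) T w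
  have h1 : kerIncl p n a =
      WittVector.truncate (n + 1) (WittVector.verschiebung^[n] (WittVector.teichmuller p a)) := by
    rw [← kerIncl_coeff_zero_eq, WittVector.teichmuller_coeff_zero]
  rw [h1, ← map_mul, mul_comm, WittVector.iterate_verschiebung_mul_left, ← kerIncl_coeff_zero_eq,
    WittVector.mul_coeff_zero, WittVector.teichmuller_coeff_zero, ghostTop_truncate, mul_comm a]
  congr 2
  rw [← ghostComponent_zero' p, ghostComponent_iterate_frobenius, zero_add]

theorem ghostTop_kerIncl (a : T) : ghostTop p n (kerIncl p n a) = (p : T) ^ n * a := by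
  have h1 : kerIncl p n a =
      WittVector.truncate (n + 1) (WittVector.verschiebung^[n] (WittVector.teichmuller p a)) := by
    rw [← kerIncl_coeff_zero_eq, WittVector.teichmuller_coeff_zero]
  rw [h1, ghostTop_truncate]
  have h : ∀ k : ℕ, ∀ z : WittVector p T,
      ghostComponent k (WittVector.verschiebung^[k] z) = (p : T) ^ k * ghostComponent 0 z := by
    intro k
    induction k with
    | zero => simp
    | succ k ih =>
      intro z
      rw [Function.iterate_succ_apply', WittVector.ghostComponent_verschiebung, ih, pow_succ']
      ring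
  rw [h, ghostComponent_zero', WittVector.teichmuller_coeff_zero]

theorem exists_kerIncl (w : TruncatedWittVector p (n + 1) T)
    (hw : TruncatedWittVector.truncate (Nat.le_succ n) w = 0) : ∃ a, w = kerIncl p n a := by
  refine ⟨w.coeff (Fin.last n), TruncatedWittVector.ext fun i => ?_⟩
  rw [coeff_kerIncl]
  split_ifs with h
  · rw [show i = Fin.last n from Fin.ext h]
  · have := congrArg (fun y => TruncatedWittVector.coeff (⟨i, by omega⟩ : Fin n) y) hw
    simpa using this

theorem truncate_kerIncl (a : T) : TruncatedWittVector.truncate (Nat.le_succ n) (kerIncl p n a) = 0 :=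
  TruncatedWittVector.ext fun i => by
    simp [coeff_kerIncl, Nat.ne_of_lt i.2]

variable {a b c : Type*} [Fintype b]

theorem mul_map_kerIncl (W : Matrix a b (TruncatedWittVector p (n + 1) T)) (A : Matrix b c T) :
    W * A.map (kerIncl p n) = (W.map (ghostTop p n) * A).map (kerIncl p n) := by
  refine Matrix.ext fun i j => ?_
  simp [Matrix.mul_apply, mul_kerIncl, map_sum]

theorem map_kerIncl_mul (A : Matrix a b T) (W : Matrix b c (TruncatedWittVector p (n + 1) T)) :
    A.map (kerIncl p n) * W = (A * W.map (ghostTop p n)).map (kerIncl p n) := by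
  refine Matrix.ext fun i j => ?_
  simp only [Matrix.mul_apply, Matrix.map_apply, map_sum]
  refine Finset.sum_congr rfl fun k _ => ?_
  rw [mul_comm, mul_kerIncl, mul_comm]

theorem isNilpotent_map_kerIncl [DecidableEq b] (hn : 0 < n) (hp : IsNilpotent (p : T)) (A : Matrix b b T) :
    IsNilpotent (A.map (kerIncl p n)) := by
  obtain ⟨r, hr⟩ := hp
  have h : ∀ k : ℕ, (A.map (kerIncl p n (T := T))) ^ (k + 1) =
      (((p : T) ^ (n * k)) • A ^ (k + 1) : Matrix b b T).map (kerIncl p n (T := T)) := by
    intro k
    induction k with
    | zero => simp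
    | succ k ih =>
      rw [pow_succ, ih, map_kerIncl_mul]
      congr 1
      have hk : (A.map (kerIncl p n)).map (ghostTop p n) = ((p : T) ^ n) • A := by
        ext i j
        simp [ghostTop_kerIncl]
      rw [hk, Matrix.smul_mul, Matrix.mul_smul, smul_smul, ← pow_succ, ← pow_add, Nat.mul_succ]
  refine ⟨r + 1, ?_⟩
  rw [h r]
  have hz : (p : T) ^ (n * r) = 0 := by
    rw [mul_comm, pow_mul, hr, zero_pow (by omega)]
  ext i j
  simp [hz]

end Groth.Agent.WittDesc88
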